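import Cfsg.Agent.Lib.Invol.TwoTimesAlt.Degree
import Cfsg.Agent.Lib.Block.SmallPSL.Order504
import Cfsg.Agent.Lib.Block.Zas.SharpEven
import Cfsg.Agent.S0813

/-!
# Centraliser `2 × A_4`: the automorphism group of `PSL(2, 8)`
-/

set_option autoImplicit false

namespace Cfsg.Agent.TwoTimesAlt

open Subgroup MulAction
open scoped Pointwise

variable {G : Type*} [Group G] [Finite G]

/-- A product of two subgroups with trivial intersection is at least as large as it should be. -/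
theorem card_sup_ge {A B : Subgroup G} (h : A ⊓ B = ⊥) :
    Nat.card A * Nat.card B ≤ Nat.card (A ⊔ B : Subgroup G) := by
  rw [← Nat.card_prod]
  refine Nat.card_le_card_of_injective
    (fun x : A × B => (⟨(x.1 : G) * x.2, mul_mem_sup x.1.2 x.2.2⟩ : (A ⊔ B : Subgroup G))) ?_
  rintro ⟨x, y⟩ ⟨x', y'⟩ hxy
  have h2 : (x : G) * y = x' * y' := congrArg Subtype.val hxy
  have h3 : (x' : G)⁻¹ * x = y' * (y : G)⁻¹ := by
    calc (x' : G)⁻¹ * x = (x' : G)⁻¹ * (x * y) * (y : G)⁻¹ := by group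
      _ = y' * (y : G)⁻¹ := by rw [h2]; group
  have h4 : (x' : G)⁻¹ * x ∈ A ⊓ B :=
    ⟨A.mul_mem (A.inv_mem x'.2) x.2, by rw [h3]; exact B.mul_mem y'.2 (B.inv_mem y.2)⟩
  rw [h, mem_bot] at h4
  rw [h4] at h3
  exact Prod.ext (Subtype.ext (inv_mul_eq_one.mp h4).symm)
    (Subtype.ext (mul_inv_eq_one.mp h3.symm).symm)

theorem card_normal_sup {A B : Subgroup G} (h : A ⊓ B = ⊥) (hn : B ≤ normalizer (A : Set G)) :
    Nat.card (A ⊔ B : Subgroup G) = Nat.card A * Nat.card B := by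
  refine le_antisymm ?_ (card_sup_ge h)
  rw [← Nat.card_prod]
  refine Nat.card_le_card_of_surjective
    (fun x : A × B => (⟨(x.1 : G) * x.2, mul_mem_sup x.1.2 x.2.2⟩ : (A ⊔ B : Subgroup G))) ?_
  rintro ⟨z, hz⟩
  rw [← SetLike.mem_coe, coe_mul_of_right_le_normalizer_left _ _ hn] at hz
  obtain ⟨x, hx, y, hy, rfl⟩ := hz
  exact ⟨(⟨x, hx⟩, ⟨y, hy⟩), rfl⟩

theorem inf_eq_bot_of_coprime {A B : Subgroup G} (h : Nat.Coprime (Nat.card A) (Nat.card B)) :
    A ⊓ B = ⊥ :=
  Subgroup.card_eq_one.mp (Nat.dvd_one.mp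
    (h ▸ Nat.dvd_gcd (card_dvd_of_le inf_le_left) (card_dvd_of_le inf_le_right)))

namespace Four

variable {J : G} {T : Subgroup G} {P : Sylow 2 G} {a b : T} (h : Four J T P a b)
include h

local notation "N" => Subgroup.normalizer ((P : Subgroup G) : Set G)
local notation "Ω" => G ⧸ N
local notation "pt" => (QuotientGroup.mk (1 : G) : G ⧸ N)

theorem card_main :
    Nat.card G = 1512 ∧ Nat.card (normalClosure ({J} : Set G)) = 504 := by
  classical
  obtain ⟨c₀, R, hc₀, hR, hRc, hΩ, huniq⟩ := h.exists_frame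
  have hG : Nat.card G = 1512 := by
    rw [← card_mul_index N, h.card_N, Subgroup.index_eq_card, hΩ]
  refine ⟨hG, ?_⟩
  have hRN : R ≤ N := hRc.trans inf_le_left
  obtain ⟨hL, -⟩ := h.card_seven_normalizer hR hRN
  obtain ⟨s, hs, hs1, hs7, hRs⟩ := h.seven_gen hR
  set L := N ⊓ normalizer (R : Set G) with hLdef
  set D := two (P := P) c₀ with hD
  have hLD : L ≤ D := by
    intro l hl
    refine ⟨hl.1, mem_stabilizer_iff.mpr (huniq _ ?_ ?_)⟩
    · exact fun hh => hc₀ (MulAction.injective l (hh.trans (smul_pt_eq_iff.mpr hl.1).symm))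
    · intro x hx
      have h1 : l⁻¹ * x * l ∈ R := by
        have := (mem_normalizer_iff.mp (inv_mem hl.2) x).mp hx
        rwa [inv_inv] at this
      refine mem_stabilizer_iff.mpr ?_
      calc x • l • c₀ = l • (l⁻¹ * x * l) • c₀ := by simp only [mul_smul, smul_inv_smul]
        _ = l • c₀ := by rw [mem_stabilizer_iff.mp (hRc h1).2]
  have hD21 : Nat.card D = 21 := by
    refine le_antisymm (h.exists_seven hc₀).2 ?_
    rw [← hL]; exact Nat.le_of_dvd Nat.card_pos (card_dvd_of_le hLD)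
  obtain ⟨v, hv, hvc⟩ := h.exists_swap hc₀
  have hv1 := (orderOf_eq_two.mp hv).1
  have hvi : v⁻¹ = v := inv_eq_of_mul_eq_one_right hv1
  have hvD : ∀ d ∈ D, v * d * v⁻¹ ∈ D := fun d hd => swap_normalizes hv1 hvc hd
  -- an element of order three commuting with `v`
  obtain ⟨c, hcD, hcv, hc1, hc3⟩ : ∃ c, c ∈ D ∧ c * v = v * c ∧ c ≠ 1 ∧ c ^ 3 = 1 := by
    have hex : ∃ c, c ∈ D ∧ c * v = v * c ∧ c ≠ 1 := by
      by_contra hno
      push Not at hno
      let φ : D →* D :=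
        { toFun := fun d => ⟨v * d * v⁻¹, hvD d d.2⟩
          map_one' := Subtype.ext (by simp)
          map_mul' := fun x y => Subtype.ext (by simp [mul_assoc]) }
      have hfp : MonoidHom.FixedPointFree φ := by
        intro d hd
        have h1 : v * (d : G) * v⁻¹ = d := congrArg Subtype.val hd
        refine Subtype.ext (hno d d.2 ?_)
        calc (d : G) * v = v * (d : G) * v⁻¹ * v := by rw [h1]
          _ = v * d := by group
      have hinv : Function.Involutive φ := fun d => Subtype.ext (by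
        change v * (v * (d : G) * v⁻¹) * v⁻¹ = d
        rw [hvi, show v * (v * (d : G) * v) * v = (v * v) * d * (v * v) by group, hv1]; simp)
      haveI : Fact (Nat.Prime 3) := ⟨Nat.prime_three⟩
      obtain ⟨r, hr⟩ := exists_prime_orderOf_dvd_card' (G := D) 3 (by rw [hD21]; norm_num)
      have h1 : (r : G) = 1 := h.no21 r.2.1 (hRN hs) hs7 hs1
        (by rw [← hr, ← orderOf_subtype, pow_orderOf_eq_one])
        (congrArg Subtype.val (hfp.commute_all_of_involutive hinv r ⟨s, hRc hs⟩).eq)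
      rw [OneMemClass.coe_eq_one.mp h1, orderOf_one] at hr
      omega
    obtain ⟨c, hcD, hcv, hc1⟩ := hex
    refine ⟨c, hcD, hcv, hc1, ?_⟩
    have h21 : c ^ 21 = 1 := by
      have := pow_card_eq_one' (x := (⟨c, hcD⟩ : D))
      rw [hD21] at this
      exact congrArg Subtype.val this
    refine h.no_seven hv (by rw [← pow_mul]; exact h21) ?_
    exact (Commute.pow_left (hcv : Commute c v) 3).eq
  set Z := zpowers c with hZ
  have hoc : orderOf c = 3 := orderOf_eq_prime hc3 hc1 (hp := ⟨Nat.prime_three⟩)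
  have hZcard : Nat.card Z = 3 := by rw [hZ, Nat.card_zpowers, hoc]
  have hZN : Z ≤ N := zpowers_le.mpr hcD.1
  have hZv : ∀ z ∈ Z, z * v = v * z := by
    intro z hz
    obtain ⟨k, rfl⟩ := mem_zpowers_iff.mp hz
    exact (Commute.zpow_left (hcv : Commute c v) k).eq
  -- the subgroup `K` of order 56
  set K := (P : Subgroup G) ⊔ R with hK
  have hKcard : Nat.card K = 56 := by
    rw [hK, card_normal_sup (inf_eq_bot_of_coprime (by rw [h.cardP, hR]; norm_num)) hRN, h.cardP, hR]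
  have hKN : K ≤ N := sup_le h.P_le_N hRN
  have hnormK : N ≤ normalizer (K : Set G) := by
    have hPL : (P : Subgroup G) ⊔ L = N := by
      refine eq_of_le_of_card_ge (sup_le h.P_le_N inf_le_left) ?_
      rw [card_normal_sup (inf_eq_bot_of_coprime (by rw [h.cardP, hL]; norm_num)) inf_le_left,
        h.cardP, hL, h.card_N]
    calc (N : Subgroup G) = (P : Subgroup G) ⊔ L := hPL.symm
      _ ≤ normalizer (K : Set G) := by
        refine sup_le (le_sup_left.trans le_normalizer) fun l hl => ?_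
        rw [mem_normalizer_iff_map_conj_eq, hK, Subgroup.map_sup]
        exact congrArg₂ (· ⊔ ·) (mem_normalizer_iff_map_conj_eq.mp hl.1)
          (mem_normalizer_iff_map_conj_eq.mp hl.2)
  have hKZ : K ⊓ Z = ⊥ := inf_eq_bot_of_coprime (by rw [hKcard, hZcard]; norm_num)
  have hKZN : K ⊔ Z = N := by
    refine eq_of_le_of_card_ge (sup_le hKN hZN) ?_
    rw [card_normal_sup hKZ (hZN.trans hnormK), hKcard, hZcard, h.card_N]
  have hsplit : ∀ n ∈ N, ∃ k ∈ K, ∃ z ∈ Z, n = k * z := by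
    intro n hn
    rw [← hKZN, ← SetLike.mem_coe, coe_mul_of_right_le_normalizer_left _ _ (hZN.trans hnormK)] at hn
    obtain ⟨k, hk, z, hz, rfl⟩ := hn
    exact ⟨k, hk, z, hz, rfl⟩
  have hDK : D ⊓ K = R := by
    have h7 : Nat.card (D ⊓ K : Subgroup G) ∣ 7 := by
      have := Nat.dvd_gcd (hD21 ▸ card_dvd_of_le (inf_le_left : D ⊓ K ≤ D))
        (hKcard ▸ card_dvd_of_le (inf_le_right : D ⊓ K ≤ K))
      simpa using this
    exact (eq_of_le_of_card_ge (le_inf hRc le_sup_right)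
      (by rw [hR]; exact Nat.le_of_dvd (by norm_num) h7)).symm
  have hvR : ∀ r ∈ R, v * r * v⁻¹ ∈ K := by
    intro r hr
    have heq : R.map (MulAut.conj v).toMonoidHom = R := by
      refine h.seven_unique hc₀ (by rw [card_map_conj, hR]) hR ?_ hRc
      rintro _ ⟨x, hx, rfl⟩
      exact hvD x (hRc hx)
    exact (le_sup_right : R ≤ K) (heq.le ⟨r, hr, rfl⟩)
  have hvN : v ∉ N := fun hh => hc₀ (hvc.symm.trans (smul_pt_eq_iff.mpr hh))
  -- `N` is transitive on the other eight points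
  have htrans : ∀ d : Ω, d ≠ pt → ∃ n ∈ N, n • c₀ = d := by
    intro d hd
    set D' := D.subgroupOf N
    let F : N ⧸ D' → {d : Ω // d ≠ pt} := Quotient.lift
      (fun n : N => ⟨(n : G) • c₀, fun hh => hc₀ (MulAction.injective (n : G)
        (hh.trans (smul_pt_eq_iff.mpr n.2).symm))⟩) (by
      intro x y hxy
      have hh' : x⁻¹ * y ∈ D' := QuotientGroup.leftRel_apply.mp hxy
      have hh : ((x : G)⁻¹ * y) • c₀ = c₀ := hh'.2
      refine Subtype.ext ?_
      calc (x : G) • c₀ = (x : G) • ((x : G)⁻¹ * y) • c₀ := by rw [hh]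
        _ = (y : G) • c₀ := by rw [mul_smul, smul_inv_smul])
    have hF : Function.Injective F := by
      intro x y hxy
      induction x using QuotientGroup.induction_on with
      | H x =>
      induction y using QuotientGroup.induction_on with
      | H y =>
        have hh : (x : G) • c₀ = (y : G) • c₀ := congrArg Subtype.val hxy
        rw [QuotientGroup.eq]
        refine ⟨(x⁻¹ * y : N).2, mem_stabilizer_iff.mpr ?_⟩
        change ((x : G)⁻¹ * y) • c₀ = c₀
        rw [mul_smul, ← hh, inv_smul_smul]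
    have hc : Nat.card {d : Ω // d ≠ pt} ≤ Nat.card (N ⧸ D') := by
      have h1 := card_eq_card_quotient_mul_card_subgroup D'
      rw [Nat.card_congr (subgroupOfEquivOfLe (inf_le_left : D ≤ N)).toEquiv, hD21, h.card_N] at h1
      have h2 : Nat.card {d : Ω // d ≠ pt} < 9 := by
        haveI := Fintype.ofFinite Ω
        rw [← hΩ, Nat.card_eq_fintype_card, Nat.card_eq_fintype_card]
        exact Fintype.card_subtype_lt (x := pt) (by simp)
      omega
    obtain ⟨q, hq⟩ := (hF.bijective_of_nat_card_le hc).2 ⟨d, hd⟩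
    induction q using QuotientGroup.induction_on with
    | H n => exact ⟨n, n.2, congrArg Subtype.val hq⟩
  let Y : Set G := {x | ∃ k₁ ∈ K, ∃ k₂ ∈ K, x = k₁ * v * k₂}
  have hconjK : ∀ n ∈ N, ∀ k ∈ K, n * k * n⁻¹ ∈ K := fun n hn k hk =>
    (mem_normalizer_iff.mp (hnormK hn) k).mp hk
  have hdecomp : ∀ g ∉ N, ∃ y ∈ Y, ∃ z ∈ Z, g = y * z := by
    intro g hg
    obtain ⟨n, hn, hn'⟩ := htrans (g • pt) (ne_pt_iff.mpr hg)
    obtain ⟨k, hk, z, hz, rfl⟩ := hsplit n hn
    have h1 : (k * z * v)⁻¹ * g ∈ N := by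
      rw [← smul_pt_eq_iff, mul_smul, ← hn', ← hvc, smul_smul, smul_smul]
      rw [show ((k * z * v)⁻¹ * (k * z) * v) = 1 by group, one_smul]
    obtain ⟨k', hk', z', hz', he⟩ := hsplit _ h1
    refine ⟨k * v * (z * k' * z⁻¹), ⟨k, hk, _, hconjK z (hZN hz) k' hk', rfl⟩, z * z',
      mul_mem hz hz', ?_⟩
    calc g = k * z * v * ((k * z * v)⁻¹ * g) := by group
      _ = k * (z * v) * (k' * z') := by rw [he]; group
      _ = k * v * (z * k' * z⁻¹) * (z * z') := by rw [hZv z hz]; group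
  have hYN : ∀ x ∈ Y, x ∉ N := by
    rintro _ ⟨k₁, hk₁, k₂, hk₂, rfl⟩ hh
    have h1 := (N).mul_mem ((N).mul_mem ((N).inv_mem (hKN hk₁)) hh) ((N).inv_mem (hKN hk₂))
    rw [show k₁⁻¹ * (k₁ * v * k₂) * k₂⁻¹ = v by group] at h1
    exact hvN h1
  have hdisj : ∀ y ∈ Y, ∀ z ∈ Z, y * z ∈ Y → z = 1 := by
    rintro _ ⟨k₁, hk₁, k₂, hk₂, rfl⟩ z hz ⟨k₃, hk₃, k₄, hk₄, he⟩
    have h1 : v * (k₃⁻¹ * k₁) * v = k₄ * z⁻¹ * k₂⁻¹ := by
      calc v * (k₃⁻¹ * k₁) * v = v * k₃⁻¹ * (k₁ * v * k₂ * z) * z⁻¹ * k₂⁻¹ := by group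
        _ = (v * v) * k₄ * z⁻¹ * k₂⁻¹ := by rw [he]; group
        _ = k₄ * z⁻¹ * k₂⁻¹ := by rw [hv1]; group
    have hkK : k₃⁻¹ * k₁ ∈ K := mul_mem (inv_mem hk₃) hk₁
    have h2 : v * (k₃⁻¹ * k₁) * v ∈ N := by
      rw [h1]
      exact (N).mul_mem ((N).mul_mem (hKN hk₄) ((N).inv_mem (hZN hz))) ((N).inv_mem (hKN hk₂))
    have h3 : k₃⁻¹ * k₁ ∈ D ⊓ K := by
      refine ⟨⟨hKN hkK, mem_stabilizer_iff.mpr ?_⟩, hkK⟩
      rw [← hvc]
      have h4 := smul_pt_eq_iff.mpr h2
      rw [mul_smul, mul_smul] at h4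
      calc (k₃⁻¹ * k₁) • v • pt = (v * v) • (k₃⁻¹ * k₁) • v • pt := by rw [hv1, one_smul]
        _ = v • pt := by rw [mul_smul, h4]
    rw [hDK] at h3
    have h5 := hvR _ h3
    rw [hvi, h1] at h5
    have h6 : z⁻¹ ∈ K ⊓ Z := by
      refine ⟨?_, Z.inv_mem hz⟩
      have := mul_mem (mul_mem (inv_mem hk₄) h5) hk₂
      rwa [show k₄⁻¹ * (k₄ * z⁻¹ * k₂⁻¹) * k₂ = z⁻¹ by group] at this
    rw [hKZ, mem_bot, inv_eq_one] at h6
    exact h6
  have hYinvol : ∀ u : G, orderOf u = 2 → u ∉ N → u ∈ Y := by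
    intro u hu huN
    obtain ⟨y, hy, z, hz, rfl⟩ := hdecomp u huN
    suffices z = 1 by rwa [this, mul_one]
    obtain ⟨k₁, hk₁, k₂, hk₂, rfl⟩ := hy
    have hy' : k₁ * v * k₂ * z * z ∈ Y := by
      refine ⟨z⁻¹ * k₂⁻¹ * z, ?_, z⁻¹ * k₁⁻¹ * z, ?_, ?_⟩
      · simpa using hconjK z⁻¹ ((N).inv_mem (hZN hz)) _ (inv_mem hk₂)
      · simpa using hconjK z⁻¹ ((N).inv_mem (hZN hz)) _ (inv_mem hk₁)
      · calc k₁ * v * k₂ * z * z = (k₁ * v * k₂ * z)⁻¹ * z := by
              rw [inv_eq_of_mul_eq_one_right (orderOf_eq_two.mp hu).1]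
          _ = z⁻¹ * k₂⁻¹ * v⁻¹ * k₁⁻¹ * z := by group
          _ = z⁻¹ * k₂⁻¹ * (z * v * z⁻¹) * k₁⁻¹ * z := by rw [hvi, hZv z hz]; group
          _ = z⁻¹ * k₂⁻¹ * z * v * (z⁻¹ * k₁⁻¹ * z) := by group
    have h2 := hdisj _ ⟨k₁, hk₁, k₂, hk₂, rfl⟩ (z * z) (mul_mem hz hz) (by rwa [← mul_assoc])
    have h3 : z ^ 3 = 1 := by
      have := pow_card_eq_one' (x := (⟨z, hz⟩ : Z))
      rw [hZcard] at this
      exact congrArg Subtype.val this
    rwa [pow_succ, pow_two, h2, one_mul] at h3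
  have hmid : ∀ k ∈ K, v * k * v ∈ K ∨ v * k * v ∈ Y := by
    intro k hk
    rw [hK, ← SetLike.mem_coe, coe_mul_of_right_le_normalizer_left _ _ hRN] at hk
    obtain ⟨p, hp, r, hr, rfl⟩ := hk
    have e : v * (p * r) * v = (v * p * v⁻¹) * (v * r * v⁻¹) := by
      calc v * (p * r) * v = v * p * (v⁻¹ * v) * r * v := by group
        _ = (v * p * v⁻¹) * (v * r * v⁻¹) := by rw [hvi]; group
    rw [e]
    by_cases hp1 : p = 1
    · exact Or.inl (by simpa [hp1] using hvR r hr)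
    have hu : orderOf (v * p * v⁻¹) = 2 := by rw [orderOf_conj]; exact h.order_P hp hp1
    by_cases huN : v * p * v⁻¹ ∈ N
    · exact Or.inl (mul_mem ((le_sup_left : (P : Subgroup G) ≤ K) (h.mem_P huN (orderOf_eq_two.mp hu).1))
        (hvR r hr))
    · obtain ⟨k₁, hk₁, k₂, hk₂, he⟩ := hYinvol _ hu huN
      exact Or.inr ⟨k₁, hk₁, k₂ * (v * r * v⁻¹), mul_mem hk₂ (hvR r hr), by rw [he]; group⟩
  let U : Subgroup G :=
    { carrier := {x | x ∈ K ∨ x ∈ Y}
      one_mem' := Or.inl (one_mem K)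
      mul_mem' := by
        rintro x y (hx | ⟨x₁, hx₁, x₂, hx₂, rfl⟩) (hy | ⟨y₁, hy₁, y₂, hy₂, rfl⟩)
        · exact Or.inl (mul_mem hx hy)
        · exact Or.inr ⟨x * y₁, mul_mem hx hy₁, y₂, hy₂, by group⟩
        · exact Or.inr ⟨x₁, hx₁, x₂ * y, mul_mem hx₂ hy, by group⟩
        · have e : x₁ * v * x₂ * (y₁ * v * y₂) = x₁ * (v * (x₂ * y₁) * v) * y₂ := by group
          rcases hmid _ (mul_mem hx₂ hy₁) with hh | ⟨k₁, hk₁, k₂, hk₂, hh⟩
          · exact Or.inl (by rw [e]; exact mul_mem (mul_mem hx₁ hh) hy₂)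
          · exact Or.inr ⟨x₁ * k₁, mul_mem hx₁ hk₁, k₂ * y₂, mul_mem hk₂ hy₂, by rw [e, hh]; group⟩
      inv_mem' := by
        rintro x (hx | ⟨x₁, hx₁, x₂, hx₂, rfl⟩)
        · exact Or.inl (inv_mem hx)
        · exact Or.inr ⟨x₂⁻¹, inv_mem hx₂, x₁⁻¹, inv_mem hx₁, by
            calc (x₁ * v * x₂)⁻¹ = x₂⁻¹ * v⁻¹ * x₁⁻¹ := by group
              _ = x₂⁻¹ * v * x₁⁻¹ := by rw [hvi]⟩ }
  set M := normalClosure ({J} : Set G) with hM
  haveI : M.Normal := normalClosure_normal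
  have hMU : M ≤ U := by
    refine (closure_le _).mpr fun y hy => ?_
    obtain ⟨z, hz, hzy⟩ := Group.mem_conjugatesOfSet_iff.mp hy
    rw [Set.mem_singleton_iff.mp hz] at hzy
    obtain ⟨g, hg⟩ := isConj_iff.mp hzy
    have hy2 : orderOf y = 2 := by rw [← hg, orderOf_conj, h.oJ]
    by_cases hyN : y ∈ N
    · exact Or.inl ((le_sup_left : (P : Subgroup G) ≤ K) (h.mem_P hyN (orderOf_eq_two.mp hy2).1))
    · exact Or.inr (hYinvol y hy2 hyN)
  have hcM : c ∉ M := by
    intro hh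
    rcases hMU hh with hh | hh
    · have : c ∈ K ⊓ Z := ⟨hh, mem_zpowers c⟩
      rw [hKZ, mem_bot] at this
      exact hc1 this
    · exact hYN c hh (hZN (mem_zpowers c))
  set C := centralizer ({J} : Set G)
  have hMC : M ⊔ C = ⊤ := by
    rw [eq_top_iff]
    intro g _
    obtain ⟨m, hm, k, hk, rfl⟩ := h.exists_mul_centralizer h.notSolvable g
    exact mul_mem_sup hm hk
  have hdiv : M.index ∣ 3 := by
    have h1 : M.relIndex ⊤ = M.relIndex C := by
      rw [← hMC, sup_comm]; exact relIndex_sup_right C M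
    rw [relIndex_top_right] at h1
    have hJM : J ∈ M := subset_normalClosure (Set.mem_singleton J)
    have h2 : (P : Subgroup G).relIndex C = 3 := by
      have h3 := card_mul_index ((P : Subgroup G).subgroupOf C)
      rw [Nat.card_congr (subgroupOfEquivOfLe h.PC).toEquiv, h.cardP, h.card_C] at h3
      change ((P : Subgroup G).subgroupOf C).index = 3
      omega
    rw [h1, ← h2]
    exact relIndex_dvd_of_le_left C (h.P_le_normal hJM)
  have hmul := card_mul_index M
  rw [hG] at hmul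
  rcases (Nat.dvd_prime Nat.prime_three).mp hdiv with hh | hh
  · exact absurd ((index_eq_one.mp hh).symm ▸ mem_top c) hcM
  · rw [hh] at hmul; omega

theorem nonempty_iso {F : Type} [Field F] [Fintype F] (hF : Fintype.card F = 8) :
    Nonempty (G ≃* MulAut (Matrix.ProjectiveSpecialLinearGroup (Fin 2) F)) := by
  obtain ⟨hG, hM504⟩ := h.card_main
  set M := normalClosure ({J} : Set G) with hM
  haveI : M.Normal := normalClosure_normal
  haveI : IsSimpleGroup M := h.isSimple_normalClosure h.notSolvable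
  obtain ⟨e⟩ := Cfsg.Agent.Block.SmallPSL.iso_psl_504 (G := M) hM504 hF
  have hJM : J ∈ M := subset_normalClosure (Set.mem_singleton J)
  set ψ : G →* MulAut M := MulAut.conjNormal with hψ
  have hker : ψ.ker = ⊥ := by
    by_contra hne
    have hJ := MonoidHom.mem_ker.mp (h.J_mem_normal hne)
    have hle : M ≤ centralizer ({J} : Set G) := by
      intro m hm
      have h1 := congrArg Subtype.val (DFunLike.congr_fun hJ ⟨m, hm⟩)
      rw [hψ, MulAut.conjNormal_apply] at h1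
      change J * m * J⁻¹ = m at h1
      refine mem_centralizer_singleton_iff.mpr ?_
      calc m * J = J * m * J⁻¹ * J := by rw [h1]
        _ = J * m := by group
    have := Nat.le_of_dvd (by rw [h.card_C]; norm_num) (card_dvd_of_le hle)
    rw [hM504, h.card_C] at this
    omega
  have hinj : Function.Injective ψ := (MonoidHom.ker_eq_bot_iff ψ).mp hker
  haveI : Fact (Nat.Prime 2) := ⟨Nat.prime_two⟩
  have hcard : Nat.card (MulAut M) = 1512 := by
    rw [Nat.card_congr (MulAut.congr e).toEquiv,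
      Cfsg.Agent.S0813.result (F := F) 2 3 (by norm_num) (by rw [hF]; norm_num) 2 le_rfl
        (fun _ => by norm_num),
      Cfsg.Agent.Block.Zas.card_PGL_two, hF]
    norm_num
  have hbij : Function.Bijective ψ :=
    (Nat.bijective_iff_injective_and_card ψ).mpr ⟨hinj, by rw [hG, hcard]⟩
  exact ⟨(MulEquiv.ofBijective ψ hbij).trans (MulAut.congr e)⟩

end Four

theorem iso_of_four {J : G} {T : Subgroup G} (h : Setup J T) (hns : ¬ Group.IsSolvable G)
    (e : T ≃* alternatingGroup (Fin 4)) :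
    ∃ (F : Type) (_ : Field F) (_ : Fintype F), Fintype.card F = 8 ∧
      Nonempty (G ≃* MulAut (Matrix.ProjectiveSpecialLinearGroup (Fin 2) F)) := by
  obtain ⟨P, a, b, hs, f, hfa, hfb⟩ := exists_small h e
    (Or.inl (by rw [nat_card_alternatingGroup, Nat.card_fin]; decide)) vfacts_four
  have hT : Nat.card T = 12 := by
    rw [Nat.card_congr e.toEquiv, nat_card_alternatingGroup, Nat.card_fin]; decide
  have pull : ∀ x : T, (f x = a4 ∨ f x = b4 ∨ f x = a4 * b4) → InV a b x := by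
    intro x hx
    rw [← hfa, ← hfb, ← map_mul, f.injective.eq_iff, f.injective.eq_iff, f.injective.eq_iff] at hx
    exact Or.inr hx
  have hfour : Four J T P a b :=
    { hs with
      cardT4 := hT
      notSolvable := hns
      conjV := fun t => ⟨pull _ (by rw [map_mul, map_mul, map_inv, hfa]; exact (normal_four (f t)).1),
        pull _ (by rw [map_mul, map_mul, map_inv, hfb]; exact (normal_four (f t)).2)⟩ }
  haveI : Fact (Nat.Prime 2) := ⟨Nat.prime_two⟩
  let hfin : Fintype (GaloisField 2 3) := Fintype.ofFinite _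
  have hF : Fintype.card (GaloisField 2 3) = 8 := by
    rw [← Nat.card_eq_fintype_card, GaloisField.card 2 3 (by norm_num)]; norm_num
  exact ⟨GaloisField 2 3, inferInstance, hfin, hF, hfour.nonempty_iso hF⟩

end Cfsg.Agent.TwoTimesAlt
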