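import Mathlib

/-!
# Facts on alternating groups for centralisers `2 × A_m`
-/

set_option autoImplicit false

namespace Cfsg.Agent.TwoTimesAlt

open Equiv Subgroup
open scoped commutatorElement

section Large

variable {α : Type*} [Fintype α] [DecidableEq α]

/-- The even permutations commuting with `x`. -/
def evenCent (x : Perm α) : Subgroup (Perm α) :=
  centralizer ({x} : Set (Perm α)) ⊓ alternatingGroup α

theorem mem_evenCent {x u : Perm α} (h : x * u * x⁻¹ = u) (hs : Perm.sign u = 1) :
    u ∈ evenCent x :=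
  ⟨mem_centralizer_singleton_iff.mpr (by
      calc u * x = (x * u * x⁻¹) * x := by rw [h]
        _ = x * u := by group), Perm.mem_alternatingGroup.mpr hs⟩

variable {x : Perm α}

theorem exists_third (h6 : 6 ≤ Fintype.card α) (hx : ∀ z, x (x z) = z) {a c : α} :
    ∃ e f : α, e ≠ f ∧ (∀ z ∈ ({e, f} : Finset α), z ≠ a ∧ z ≠ x a ∧ z ≠ c ∧ z ≠ x c) ∧
      x * swap e f * x⁻¹ = swap e f := by
  set S : Finset α := {a, x a, c, x c} with hS
  have hinv : ∀ z, x z ∈ S → z ∈ S := by
    intro z hz
    have := congrArg x (rfl : x z = x z)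
    simp only [hS, Finset.mem_insert, Finset.mem_singleton] at hz ⊢
    rcases hz with h | h | h | h
    · exact Or.inr (Or.inl (by rw [← h, hx]))
    · exact Or.inl (x.injective h)
    · exact Or.inr (Or.inr (Or.inr (by rw [← h, hx])))
    · exact Or.inr (Or.inr (Or.inl (x.injective h)))
  have out : ∀ z, z ∉ S → z ≠ a ∧ z ≠ x a ∧ z ≠ c ∧ z ≠ x c := fun z hz => by
    simpa [hS] using hz
  by_cases h : ∃ e, e ∉ S ∧ x e ≠ e
  · obtain ⟨e, he, hne⟩ := h
    refine ⟨e, x e, fun h => hne h.symm, ?_, ?_⟩
    · intro z hz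
      simp only [Finset.mem_insert, Finset.mem_singleton] at hz
      rcases hz with rfl | rfl
      · exact out _ he
      · exact out _ fun h => he (hinv e h)
    · rw [← swap_apply_apply, hx, swap_comm]
  · push Not at h
    have h4 : S.card ≤ 4 := Finset.card_le_four
    have h2 : 1 < Sᶜ.card := by rw [Finset.card_compl]; omega
    obtain ⟨e, he, f, hf, hef⟩ := Finset.one_lt_card.1 h2
    rw [Finset.mem_compl] at he hf
    refine ⟨e, f, hef, ?_, ?_⟩
    · intro z hz
      simp only [Finset.mem_insert, Finset.mem_singleton] at hz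
      rcases hz with rfl | rfl
      · exact out _ he
      · exact out _ hf
    · rw [← swap_apply_apply, h e he, h f hf]

theorem pair_mem (h6 : 6 ≤ Fintype.card α) (hx : ∀ z, x (x z) = z) {a c : α} (ha : x a ≠ a)
    (hc : x c ≠ c) (hca : c ≠ a) (hcb : c ≠ x a) :
    swap a (x a) * swap c (x c) ∈ ⁅evenCent x, evenCent x⁆ := by
  obtain ⟨e, f, hef, hout, hxef⟩ := exists_third h6 hx (a := a) (c := c)
  obtain ⟨hea, heb, hec, hed⟩ := hout e (by simp)
  obtain ⟨hfa, hfb, hfc, hfd⟩ := hout f (by simp)
  have hdb : x c ≠ x a := fun h => hca (x.injective h)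
  have hda : x c ≠ a := fun h => hcb (by rw [← h, hx])
  set b := x a with hb
  set d := x c with hd
  have hxb : x b = a := hx a
  have hxd : x d = c := hx c
  have hswap : swap a c * swap b d = swap b d * swap a c := by
    exact (Equiv.Perm.disjoint_iff_eq_or_eq.mpr fun z => by
      rcases eq_or_ne z a with rfl | h1
      · exact Or.inr (swap_apply_of_ne_of_ne ha.symm hda.symm)
      rcases eq_or_ne z c with rfl | h2
      · exact Or.inr (swap_apply_of_ne_of_ne hcb hc.symm)
      exact Or.inl (swap_apply_of_ne_of_ne h1 h2)).commute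
  have hu : swap a c * swap b d ∈ evenCent x := by
    refine mem_evenCent ?_ ?_
    · rw [show x * (swap a c * swap b d) * x⁻¹ = (x * swap a c * x⁻¹) * (x * swap b d * x⁻¹) by
        group, ← swap_apply_apply, ← swap_apply_apply, ← hb, ← hd, hxb, hxd, hswap]
    · rw [map_mul, Perm.sign_swap hca.symm, Perm.sign_swap hdb.symm]; decide
  have hv : swap a b * swap e f ∈ evenCent x := by
    refine mem_evenCent ?_ ?_
    · rw [show x * (swap a b * swap e f) * x⁻¹ = (x * swap a b * x⁻¹) * (x * swap e f * x⁻¹) by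
        group, hxef, ← swap_apply_apply, hxb, ← hb, swap_comm]
    · rw [map_mul, Perm.sign_swap ha.symm, Perm.sign_swap hef]; decide
  have key := commutator_mem_commutator hu hv
  have hconj : (swap a c * swap b d) * (swap a b * swap e f) * (swap a c * swap b d)⁻¹ =
      swap c d * swap e f := by
    have e1 : (swap a c * swap b d) a = c := by
      rw [Perm.mul_apply, swap_apply_of_ne_of_ne ha.symm hda.symm, swap_apply_left]
    have e2 : (swap a c * swap b d) b = d := by
      rw [Perm.mul_apply, swap_apply_left, swap_apply_of_ne_of_ne hda hc]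
    have e3 : ∀ z, z ≠ a → z ≠ b → z ≠ c → z ≠ d → (swap a c * swap b d) z = z :=
      fun z h1 h2 h3 h4 => by
      rw [Perm.mul_apply, swap_apply_of_ne_of_ne h2 h4, swap_apply_of_ne_of_ne h1 h3]
    rw [show ∀ u v w : Perm α, u * (v * w) * u⁻¹ = (u * v * u⁻¹) * (u * w * u⁻¹) by
      intros; group, ← swap_apply_apply, ← swap_apply_apply, e1, e2, e3 e hea heb hec hed,
      e3 f hfa hfb hfc hfd]
  have heq : ⁅swap a c * swap b d, swap a b * swap e f⁆ = swap c d * swap a b := by
    rw [commutatorElement_def, hconj, mul_inv_rev, swap_inv, swap_inv, mul_assoc,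
      swap_mul_self_mul]
  rw [heq] at key
  have key' := inv_mem key
  rwa [mul_inv_rev, swap_inv, swap_inv] at key'

theorem sign_split {a b c d : α} (hab : a ≠ b) (hcd : c ≠ d) (y : Perm α) :
    Perm.sign (swap c d * (swap a b * y)) = Perm.sign y := by
  rw [map_mul, map_mul, Perm.sign_swap hab, Perm.sign_swap hcd, ← mul_assoc]
  simp

/-- Removing one cycle of `y`. -/
theorem remove_cycle (hx : ∀ z, x (x z) = z) {y : Perm α} (hy : ∀ z, y z = z ∨ y z = x z) {a : α}
    (ha : y a ≠ a) :
    (∀ z, (swap a (x a) * y) z = z ∨ (swap a (x a) * y) z = x z) ∧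
      (swap a (x a) * y) a = a ∧ (swap a (x a) * y) (x a) = x a ∧
      (∀ z, (swap a (x a) * y) z ≠ z → y z ≠ z) := by
  have hya : y a = x a := (hy a).resolve_left ha
  have hyb : y (x a) = a := by
    rcases hy (x a) with h | h
    · exact absurd (y.injective (h.trans hya.symm)) (fun h' => ha (hya.trans h'))
    · rw [h, hx]
  have hfix : ∀ z, z ≠ a → z ≠ x a → (swap a (x a) * y) z = y z := by
    intro z h1 h2
    rw [Perm.mul_apply]
    refine swap_apply_of_ne_of_ne (fun h => h2 ?_) (fun h => h1 ?_)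
    · exact y.injective (h.trans hyb.symm)
    · exact y.injective (h.trans hya.symm)
  have h1 : (swap a (x a) * y) a = a := by rw [Perm.mul_apply, hya, swap_apply_right]
  have h2 : (swap a (x a) * y) (x a) = x a := by rw [Perm.mul_apply, hyb, swap_apply_left]
  refine ⟨fun z => ?_, h1, h2, fun z hz => ?_⟩
  · by_cases hza : z = a
    · subst hza; exact Or.inl h1
    by_cases hzb : z = x a
    · subst hzb; exact Or.inl h2
    rw [hfix z hza hzb]; exact hy z
  · have hza : z ≠ a := fun h => hz (h ▸ h1)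
    have hzb : z ≠ x a := fun h => hz (h ▸ h2)
    rwa [hfix z hza hzb] at hz

theorem mem_of_part (h6 : 6 ≤ Fintype.card α) (hx : ∀ z, x (x z) = z) :
    ∀ (n : ℕ) (y : Perm α), y.support.card ≤ n → (∀ z, y z = z ∨ y z = x z) →
      Perm.sign y = 1 → y ∈ ⁅evenCent x, evenCent x⁆ := by
  intro n
  induction n with
  | zero =>
    intro y hn _ _
    have : y = 1 := by
      rw [← Perm.support_eq_empty_iff, ← Finset.card_eq_zero]; omega
    exact this ▸ one_mem _
  | succ n ih =>
    intro y hn hy hsg
    by_cases h1 : y = 1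
    · exact h1 ▸ one_mem _
    obtain ⟨a, ha⟩ : ∃ a, y a ≠ a := by
      by_contra h; push Not at h; exact h1 (Perm.ext h)
    obtain ⟨hy', hya, hyb, hsupp⟩ := remove_cycle hx hy ha
    have hab : a ≠ x a := fun h => ha (((hy a).resolve_left ha).trans h.symm)
    set y' := swap a (x a) * y with hy'def
    have h1' : y' ≠ 1 := by
      intro h
      have := congrArg Perm.sign h
      rw [hy'def, map_mul, hsg, mul_one, Perm.sign_swap hab, map_one] at this
      exact absurd this (by decide)
    obtain ⟨c, hc⟩ : ∃ c, y' c ≠ c := by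
      by_contra h; push Not at h; exact h1' (Perm.ext h)
    obtain ⟨hy'', -, -, hsupp'⟩ := remove_cycle hx hy' hc
    have hcd : c ≠ x c := fun h => hc (((hy' c).resolve_left hc).trans h.symm)
    have hca : c ≠ a := fun h => hc (h ▸ hya)
    have hcb : c ≠ x a := fun h => hc (h ▸ hyb)
    set y'' := swap c (x c) * y' with hy''def
    have hlt : y''.support.card < y.support.card := by
      refine Finset.card_lt_card (Finset.ssubset_iff_of_subset ?_ |>.2 ⟨a, ?_, ?_⟩)
      · intro z hz
        rw [Perm.mem_support] at hz ⊢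
        exact hsupp z (hsupp' z hz)
      · rwa [Perm.mem_support]
      · rw [Perm.mem_support, not_not]
        by_contra h
        exact hsupp' a h hya
    have hmem := ih y'' (by omega) hy'' (by rw [hy''def, hy'def, sign_split hab hcd, hsg])
    have hprod : y = swap a (x a) * swap c (x c) * y'' := by
      rw [hy''def, hy'def, mul_assoc, swap_mul_self_mul, swap_mul_self_mul]
    rw [hprod]
    exact mul_mem (pair_mem h6 hx hab.symm hcd.symm hca hcb) hmem

/-- For at least six points, an involution lies in the derived group of its centraliser in the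
alternating group. -/
theorem mem_commutator_centralizer (h6 : 6 ≤ Fintype.card α) (t : alternatingGroup α)
    (ht : t * t = 1) :
    t ∈ ⁅centralizer ({t} : Set (alternatingGroup α)),
      centralizer ({t} : Set (alternatingGroup α))⁆ := by
  have hx : ∀ z, (t : Perm α) ((t : Perm α) z) = z := fun z =>
    congrArg (fun p : alternatingGroup α => (p : Perm α) z) ht
  have h := mem_of_part h6 hx _ (t : Perm α) le_rfl (fun z => Or.inr rfl)
    (Perm.mem_alternatingGroup.mp t.2)
  have hle : evenCent (t : Perm α) ≤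
      (centralizer ({t} : Set (alternatingGroup α))).map (alternatingGroup α).subtype := by
    intro u hu
    refine ⟨⟨u, hu.2⟩, mem_centralizer_singleton_iff.mpr (Subtype.ext ?_), rfl⟩
    exact mem_centralizer_singleton_iff.mp hu.1
  have h' := commutator_mono hle hle h
  rw [← map_commutator] at h'
  obtain ⟨u, hu, hut⟩ := h'
  exact (Subtype.ext hut : u = t) ▸ hu

end Large

section Small

/-- `t` and its conjugate under `q` do not lie in a common subgroup of odd order. -/
abbrev OddBreak {A : Type*} [Group A] (t q : A) : Prop :=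
  ((t * t * (q * t * q)) * (t * t * (q * t * q)) = 1 ∧ t * t * (q * t * q) ≠ 1) ∨
    ((t * (q * t * q) * t⁻¹ * (q * t * q)) * (t * (q * t * q) * t⁻¹ * (q * t * q)) = 1 ∧
      t * (q * t * q) * t⁻¹ * (q * t * q) ≠ 1)

/-- What is used of `A_m`, `m = 4, 5`, with respect to the four group `{1, a, b, a b}`. -/
structure VFacts {A : Type*} [Group A] (a b : A) : Prop where
  ha : a * a = 1
  ha1 : a ≠ 1
  hb : b * b = 1
  hb1 : b ≠ 1
  hab : a ≠ b
  hcomm : a * b = b * a
  one_class : ∀ t : A, t * t = 1 → t ≠ 1 → ∃ c : A, c * a * c⁻¹ = t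
  four : ∀ t : A, t * t = 1 → t * a = a * t → t = 1 ∨ t = a ∨ t = b ∨ t = a * b
  two_sq : ∀ t : A, t ^ 4 = 1 → t * t = 1
  cent : ∀ t : A, t * a = a * t → t * b = b * t → t = 1 ∨ t = a ∨ t = b ∨ t = a * b
  oddsub : ∀ t : A, t * t ≠ 1 →
    OddBreak t a ∨ OddBreak t b ∨ OddBreak t (a * b)

/-- `(01)(23)` in `A_4`. -/
def a4 : alternatingGroup (Fin 4) := ⟨swap 0 1 * swap 2 3, Perm.mem_alternatingGroup.mpr (by decide)⟩

/-- `(02)(13)` in `A_4`. -/
def b4 : alternatingGroup (Fin 4) := ⟨swap 0 2 * swap 1 3, Perm.mem_alternatingGroup.mpr (by decide)⟩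

/-- `(01)(23)` in `A_5`. -/
def a5 : alternatingGroup (Fin 5) := ⟨swap 0 1 * swap 2 3, Perm.mem_alternatingGroup.mpr (by decide)⟩

/-- `(02)(13)` in `A_5`. -/
def b5 : alternatingGroup (Fin 5) := ⟨swap 0 2 * swap 1 3, Perm.mem_alternatingGroup.mpr (by decide)⟩

theorem vfacts_four : VFacts a4 b4 := by
  constructor <;> decide +kernel

theorem normal_four : ∀ t : alternatingGroup (Fin 4),
    (t * a4 * t⁻¹ = a4 ∨ t * a4 * t⁻¹ = b4 ∨ t * a4 * t⁻¹ = a4 * b4) ∧
    (t * b4 * t⁻¹ = a4 ∨ t * b4 * t⁻¹ = b4 ∨ t * b4 * t⁻¹ = a4 * b4) := by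
  decide +kernel

theorem vfacts_five : VFacts a5 b5 := by
  constructor <;> decide +kernel

theorem two_involutions_five : ∀ t : alternatingGroup (Fin 5),
    ∃ c : alternatingGroup (Fin 5), c * c = 1 ∧ (c * t) * (c * t) = 1 := by
  decide +kernel

theorem not_normal_five : ∃ t : alternatingGroup (Fin 5),
    t * a5 * t⁻¹ ≠ a5 ∧ t * a5 * t⁻¹ ≠ b5 ∧ t * a5 * t⁻¹ ≠ a5 * b5 := by
  decide +kernel

end Small

end Cfsg.Agent.TwoTimesAlt
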