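import Cfsg.Prelude.Def_TwoFusion
import Cfsg.Prelude.Def_SporadicB
import Cfsg.Agent.S0111
import Cfsg.Agent.Lib.Invol.TwoTimesAlt.Alt

/-!
# Groups with an involution centraliser `2 × A_m`
-/

set_option autoImplicit false

namespace Cfsg.Agent.TwoTimesAlt

open Subgroup
open scoped commutatorElement Pointwise

variable {G : Type*} [Group G] [Finite G]

omit [Finite G] in
theorem orderOf_eq_two {x : G} : orderOf x = 2 ↔ x * x = 1 ∧ x ≠ 1 := by
  constructor
  · intro h
    refine ⟨by rw [← pow_two, ← h, pow_orderOf_eq_one], fun h1 => ?_⟩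
    rw [h1, orderOf_one] at h; omega
  · rintro ⟨h, h1⟩
    exact orderOf_eq_prime (by rw [pow_two, h]) h1

omit [Finite G] in
theorem orderOf_conj (g x : G) : orderOf (g * x * g⁻¹) = orderOf x := by
  rw [show g * x * g⁻¹ = MulAut.conj g x from rfl, MulEquiv.orderOf_eq]

omit [Finite G] in
theorem orderOf_subtype {H : Subgroup G} (x : H) : orderOf (x : G) = orderOf x :=
  orderOf_injective H.subtype H.subtype_injective x

/-- An involution is conjugate into a given Sylow 2-subgroup. -/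
theorem exists_conj_mem (P : Sylow 2 G) {v : G} (hv : orderOf v = 2) :
    ∃ g : G, g * v * g⁻¹ ∈ P := by
  have h : IsPGroup 2 (zpowers v) := IsPGroup.of_card (n := 1) (by rw [Nat.card_zpowers, hv, pow_one])
  obtain ⟨Q, hQ⟩ := h.exists_le_sylow
  obtain ⟨g, hg⟩ := MulAction.exists_smul_eq G Q P
  refine ⟨g, ?_⟩
  rw [← hg]
  change g * v * g⁻¹ ∈ ((g • Q : Sylow 2 G) : Subgroup G)
  rw [Sylow.coe_subgroup_smul]
  exact ⟨v, hQ (mem_zpowers v), rfl⟩

/-- A group of even order has an involution. -/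
theorem exists_involution {K : Subgroup G} (h : ¬ Odd (Nat.card K)) : ∃ v ∈ K, orderOf v = 2 := by
  rw [Nat.not_odd_iff_even, even_iff_two_dvd] at h
  haveI : Fact (Nat.Prime 2) := ⟨Nat.prime_two⟩
  obtain ⟨v, hv⟩ := exists_prime_orderOf_dvd_card' 2 h
  exact ⟨v, v.2, by rw [orderOf_subtype, hv]⟩

/-- `J` is a 2-central involution with centraliser `⟨J⟩ × T`, and `G` has no subgroup of index 2. -/
structure Setup (J : G) (T : Subgroup G) : Prop where
  noIdx : ∀ N : Subgroup G, N.Normal → N.index ≠ 2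
  twoCentral : IsTwoCentralInvolution J
  prod : IsInternalDirectProduct (zpowers J) T (centralizer ({J} : Set G))

namespace Setup

variable {J : G} {T : Subgroup G} (h : Setup J T)
include h

omit [Finite G]

theorem oJ : orderOf J = 2 := h.twoCentral.1

theorem sqJ : J * J = 1 := (orderOf_eq_two.mp h.oJ).1

theorem invJ : J⁻¹ = J := inv_eq_of_mul_eq_one_right h.sqJ

theorem T_le : T ≤ centralizer ({J} : Set G) := h.prod.2.1

theorem J_mem : J ∈ centralizer ({J} : Set G) := mem_centralizer_singleton_iff.mpr rfl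

theorem comm {t : G} (ht : t ∈ T) : J * t = t * J :=
  h.prod.2.2.1 J (mem_zpowers J) t ht

theorem J_notMem : J ∉ T := by
  intro hJ
  have h1 : J ∈ zpowers J ⊓ T := ⟨mem_zpowers J, hJ⟩
  rw [h.prod.2.2.2.1, mem_bot] at h1
  exact (orderOf_eq_two.mp h.oJ).2 h1

theorem J_mul_mem {t : G} (ht : t ∈ T) : J * t ∉ T := fun hJ =>
  h.J_notMem (by simpa using mul_mem hJ (inv_mem ht))

theorem split {c : G} (hc : c ∈ centralizer ({J} : Set G)) : c ∈ T ∨ J * c ∈ T := by
  let U : Subgroup G :=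
    { carrier := {c | c * J = J * c ∧ (c ∈ T ∨ J * c ∈ T)}
      one_mem' := ⟨by simp, Or.inl (one_mem T)⟩
      mul_mem' := by
        rintro a b ⟨ha, ha'⟩ ⟨hb, hb'⟩
        refine ⟨by rw [mul_assoc, hb, ← mul_assoc, ha, mul_assoc], ?_⟩
        rcases ha' with ha' | ha' <;> rcases hb' with hb' | hb'
        · exact Or.inl (mul_mem ha' hb')
        · exact Or.inr (by rw [← mul_assoc, ← ha, mul_assoc]; exact mul_mem ha' hb')
        · exact Or.inr (by rw [← mul_assoc]; exact mul_mem ha' hb')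
        · refine Or.inl ?_
          have h1 : a * b = (J * a) * (J * b) := by
            rw [← ha, mul_assoc, ← mul_assoc J, h.sqJ, one_mul]
          rw [h1]; exact mul_mem ha' hb'
      inv_mem' := by
        rintro a ⟨ha, ha'⟩
        have hc' : a⁻¹ * J = J * a⁻¹ := (Commute.inv_left (ha : Commute a J)).eq
        refine ⟨hc', ?_⟩
        rcases ha' with ha' | ha'
        · exact Or.inl (inv_mem ha')
        · refine Or.inr ?_
          have h1 : (J * a)⁻¹ = J * a⁻¹ := by rw [mul_inv_rev, h.invJ, hc']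
          rw [← h1]; exact inv_mem ha' }
  have hle : centralizer ({J} : Set G) ≤ U := by
    rw [← h.prod.2.2.2.2, sup_le_iff, zpowers_le]
    exact ⟨⟨rfl, Or.inr (by rw [h.sqJ]; exact one_mem T)⟩,
      fun t ht => ⟨(h.comm ht).symm, Or.inl ht⟩⟩
  exact (hle hc).2

theorem relIndex_eq_two {W : Subgroup G} (hW : W ≤ centralizer ({J} : Set G)) (hJ : J ∈ W) :
    (W ⊓ T).relIndex W = 2 := by
  rw [relIndex_eq_two_iff]
  refine ⟨J, hJ, fun b hb => ?_⟩
  have hcomm : b * J = J * b := mem_centralizer_singleton_iff.mp (hW hb)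
  rcases h.split (hW hb) with ht | ht
  · exact Or.inr ⟨⟨hb, ht⟩, fun hh => h.J_mul_mem ht (hcomm ▸ hh.2)⟩
  · exact Or.inl ⟨⟨mul_mem hb hJ, by rw [hcomm]; exact ht⟩, fun hh => h.J_mul_mem hh.2 ht⟩

theorem commutator_le :
    ⁅centralizer ({J} : Set G), centralizer ({J} : Set G)⁆ ≤ T := by
  rw [Subgroup.commutator_le]
  intro a ha b hb
  have ca : a * J = J * a := mem_centralizer_singleton_iff.mp ha
  have cb : b * J = J * b := mem_centralizer_singleton_iff.mp hb
  have e1 : ⁅J * a, b⁆ = ⁅a, b⁆ := by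
    rw [commutatorElement_def, commutatorElement_def, mul_inv_rev, h.invJ,
      show J * a * b * (a⁻¹ * J) * b⁻¹ = J * (a * b * a⁻¹) * (J * b⁻¹) by group,
      ← (Commute.inv_left (cb : Commute b J)).eq]
    have : Commute J (a * b * a⁻¹ * b⁻¹) :=
      (Commute.mul_left (Commute.mul_left (Commute.mul_left ca cb) (Commute.inv_left ca))
        (Commute.inv_left cb)).symm
    rw [show J * (a * b * a⁻¹) * (b⁻¹ * J) = J * (a * b * a⁻¹ * b⁻¹) * J by group, this.eq,
      mul_assoc, h.sqJ, mul_one]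
  have e2 : ∀ c : G, c * J = J * c → ⁅c, J * b⁆ = ⁅c, b⁆ := fun c hc => by
    rw [commutatorElement_def, commutatorElement_def, mul_inv_rev, h.invJ,
      show c * (J * b) * c⁻¹ * (b⁻¹ * J) = (c * J) * b * c⁻¹ * b⁻¹ * J by group, hc]
    have : Commute J (c * b * c⁻¹ * b⁻¹) :=
      (Commute.mul_left (Commute.mul_left (Commute.mul_left hc cb) (Commute.inv_left hc))
        (Commute.inv_left cb)).symm
    rw [show J * c * b * c⁻¹ * b⁻¹ * J = J * (c * b * c⁻¹ * b⁻¹) * J by group, this.eq,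
      mul_assoc, h.sqJ, mul_one]
  have key : ∀ x y : G, x ∈ T → y ∈ T → ⁅x, y⁆ ∈ T := fun x y hx hy => by
    rw [commutatorElement_def]
    exact mul_mem (mul_mem (mul_mem hx hy) (inv_mem hx)) (inv_mem hy)
  rcases h.split ha with ht | ht <;> rcases h.split hb with hu | hu
  · exact key a b ht hu
  · rw [← e2 a ca]; exact key a _ ht hu
  · rw [← e1]; exact key _ b ht hu
  · rw [← e1, ← e2 (J * a) (by rw [mul_assoc, ca])]; exact key _ _ ht hu

/-- `J` is conjugate to an element of `P ⊓ T`. -/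
theorem exists_conj [Finite G] : ∃ P : Sylow 2 G, J ∈ P ∧
    (P : Subgroup G) ≤ centralizer ({J} : Set G) ∧ ∃ g : G, g * J * g⁻¹ ∈ (P : Subgroup G) ⊓ T := by
  obtain ⟨-, P, hJP, hP⟩ := h.twoCentral
  have hPC : (P : Subgroup G) ≤ centralizer ({J} : Set G) := fun x hx =>
    mem_centralizer_singleton_iff.mpr (hP x hx)
  refine ⟨P, hJP, hPC, ?_⟩
  rcases Cfsg.Agent.S0111.result P ((P : Subgroup G) ⊓ T) inf_le_left
      (h.relIndex_eq_two hPC hJP) J h.oJ hJP (fun hh => h.J_notMem hh.2) with ⟨M, hM, hi, -⟩ | hg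
  · exact absurd hi (h.noIdx M hM)
  · exact hg

/-- `T` has even order. -/
theorem two_dvd [Finite G] : 2 ∣ Nat.card T := by
  obtain ⟨P, -, -, g, hg⟩ := h.exists_conj
  have ho : orderOf (⟨_, hg.2⟩ : T) = 2 := by
    rw [← orderOf_subtype, orderOf_conj, h.oJ]
  exact ho ▸ orderOf_dvd_natCard _

/-- The case of degree at least six is impossible. -/
theorem false_of_large [Finite G] {m : ℕ} (hm : 6 ≤ m) (e : T ≃* alternatingGroup (Fin m)) :
    False := by
  obtain ⟨P, -, -, g, hg⟩ := h.exists_conj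
  set x := g * J * g⁻¹ with hx
  set t : T := ⟨x, hg.2⟩ with htdef
  have ht : t * t = 1 := Subtype.ext
    (orderOf_eq_two.mp (show orderOf x = 2 by rw [hx, orderOf_conj, h.oJ])).1
  have h1 := mem_commutator_centralizer (α := Fin m) (by simpa using hm) (e t)
    (by rw [← map_mul, ht, map_one])
  set φ : alternatingGroup (Fin m) →* G := T.subtype.comp e.symm.toMonoidHom
  have h2 : x ∈ ⁅(centralizer ({e t} : Set (alternatingGroup (Fin m)))).map φ,
      (centralizer ({e t} : Set (alternatingGroup (Fin m)))).map φ⁆ := by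
    rw [← map_commutator]
    exact ⟨e t, h1, congrArg Subtype.val (e.symm_apply_apply t)⟩
  have hφ : φ (e t) = x := congrArg Subtype.val (e.symm_apply_apply t)
  have hle : (centralizer ({e t} : Set (alternatingGroup (Fin m)))).map φ ≤
      (centralizer ({J} : Set G)).map (MulAut.conj g).toMonoidHom := by
    rintro _ ⟨u, hu, rfl⟩
    refine ⟨g⁻¹ * φ u * g, mem_centralizer_singleton_iff.mpr ?_, by simp [mul_assoc]⟩
    have h3 : φ u * x = x * φ u := by
      rw [← hφ, ← map_mul, ← map_mul, mem_centralizer_singleton_iff.mp hu]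
    calc g⁻¹ * φ u * g * J = g⁻¹ * (φ u * x) * g := by rw [hx]; group
      _ = g⁻¹ * (x * φ u) * g := by rw [h3]
      _ = J * (g⁻¹ * φ u * g) := by rw [hx]; group
  have h4 := commutator_mono hle hle h2
  rw [← map_commutator] at h4
  obtain ⟨y, hy, hyx⟩ := h4
  rw [(MulAut.conj g).injective (hyx : MulAut.conj g y = MulAut.conj g J)] at hy
  exact h.J_notMem (h.commutator_le hy)

end Setup

end Cfsg.Agent.TwoTimesAlt
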