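import Cfsg.Agent.Lib.Invol.TwoTimesAlt.Swap

/-!
# Centraliser `2 × A_4`: the degree is nine
-/

set_option autoImplicit false

namespace Cfsg.Agent.TwoTimesAlt

open Subgroup MulAction

variable {G : Type*} [Group G] [Finite G]

omit [Finite G] in
theorem mem_map_conj {R : Subgroup G} {n x : G} :
    x ∈ R.map (MulAut.conj n).toMonoidHom ↔ n⁻¹ * x * n ∈ R := by
  rw [mem_map]
  refine ⟨?_, fun hh => ⟨_, hh, by simp [mul_assoc]⟩⟩
  rintro ⟨y, hy, rfl⟩
  simpa [mul_assoc] using hy

theorem card_map_conj {R : Subgroup G} {n : G} :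
    Nat.card (R.map (MulAut.conj n).toMonoidHom) = Nat.card R :=
  (Nat.card_congr (R.equivMapOfInjective _ (MulAut.conj n).injective).toEquiv).symm

theorem factorization_seven : Nat.factorization 168 7 = 1 := by
  rw [show (168 : ℕ) = 7 * 24 by norm_num, Nat.factorization_mul (by norm_num) (by norm_num)]
  rw [Finsupp.add_apply, Nat.Prime.factorization_self (by norm_num),
    Nat.factorization_eq_zero_of_not_dvd (by norm_num)]

namespace Four

variable {J : G} {T : Subgroup G} {P : Sylow 2 G} {a b : T} (h : Four J T P a b)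
include h

local notation "N" => Subgroup.normalizer ((P : Subgroup G) : Set G)
local notation "Ω" => G ⧸ N
local notation "pt" => (QuotientGroup.mk (1 : G) : G ⧸ N)

theorem exists_ne_pt : ∃ c : Ω, c ≠ pt := by
  by_contra hno
  push Not at hno
  refine h.P_not_normal h.notSolvable (normalizer_eq_top_iff.mp (eq_top_iff.mpr fun g _ => ?_))
  have h1 := (QuotientGroup.eq.mp (hno (QuotientGroup.mk g)).symm)
  simpa using h1

theorem seven_gen {R : Subgroup G} (hR : Nat.card R = 7) :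
    ∃ s ∈ R, s ≠ 1 ∧ s ^ 7 = 1 ∧ R = zpowers s := by
  haveI : Fact (Nat.Prime 7) := ⟨by norm_num⟩
  obtain ⟨s, hs⟩ := exists_prime_orderOf_dvd_card' (G := R) 7 (by rw [hR])
  have ho : orderOf (s : G) = 7 := by rw [orderOf_subtype, hs]
  refine ⟨s, s.2, fun hh => ?_, by rw [← ho, pow_orderOf_eq_one], ?_⟩
  · rw [hh, orderOf_one] at ho; omega
  · exact (eq_of_le_of_card_ge (zpowers_le.mpr s.2) (by rw [Nat.card_zpowers, ho, hR])).symm

theorem no_involution_normalizes {R : Subgroup G} (hR : Nat.card R = 7) (hRN : R ≤ N) {u : G}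
    (huN : u ∈ N) (hu : orderOf u = 2) : u ∉ normalizer (R : Set G) := by
  intro hun
  obtain ⟨s, hs, hs1, hs7, -⟩ := h.seven_gen hR
  have hu1 := (orderOf_eq_two.mp hu).1
  have huP := h.mem_P huN hu1
  have e1 : s * u * s⁻¹ * u⁻¹ ∈ P :=
    mul_mem ((mem_normalizer_iff.mp (hRN hs) u).mp huP : s * u * s⁻¹ ∈ (P : Subgroup G)) (inv_mem huP)
  have e2 : s * u * s⁻¹ * u⁻¹ ∈ R := by
    rw [show s * u * s⁻¹ * u⁻¹ = s * (u * s⁻¹ * u⁻¹) by group]
    exact mul_mem hs ((mem_normalizer_iff.mp hun _).mp (inv_mem hs))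
  have e3 : s * u * s⁻¹ * u⁻¹ = 1 := by
    have h2 := h.sq e1
    have h7 : (s * u * s⁻¹ * u⁻¹) ^ 7 = 1 := by
      have := pow_card_eq_one' (x := (⟨_, e2⟩ : R))
      rw [hR] at this
      exact congrArg Subtype.val this
    rw [pow_succ, show 6 = 2 * 3 from rfl, pow_mul, pow_two, h2, one_pow, one_mul] at h7
    exact h7
  exact hs1 (h.no_seven hu hs7 (by
    calc s * u = s * u * s⁻¹ * u⁻¹ * (u * s) := by group
      _ = u * s := by rw [e3, one_mul]))

theorem card_seven_normalizer {R : Subgroup G} (hR : Nat.card R = 7) (hRN : R ≤ N) :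
    Nat.card (N ⊓ normalizer (R : Set G) : Subgroup G) = 21 ∧
      ∀ A : Subgroup G, Nat.card A = 7 → A ≤ N →
        ∃ n ∈ N, A = R.map (MulAut.conj n).toMonoidHom := by
  haveI : Fact (Nat.Prime 7) := ⟨by norm_num⟩
  set L := N ⊓ normalizer (R : Set G) with hL
  have hcard : ∀ A : Subgroup G, Nat.card A = 7 → A ≤ N →
      Nat.card (A.subgroupOf N) = 7 ^ (Nat.card N).factorization 7 := by
    intro A hA hAN
    rw [Nat.card_congr (subgroupOfEquivOfLe hAN).toEquiv, hA, h.card_N, factorization_seven,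
      pow_one]
  set S : Sylow 7 N := Sylow.ofCard (R.subgroupOf N) (hcard R hR hRN) with hS
  have hnorm : normalizer (((S : Subgroup N)) : Set N) = L.subgroupOf N := by
    ext x
    simp only [mem_subgroupOf, hL, mem_inf, x.2, true_and]
    rw [mem_normalizer_iff, mem_normalizer_iff]
    constructor
    · intro hh y
      constructor
      · intro hy
        exact (hh ⟨y, hRN hy⟩).mp hy
      · intro hy
        have hyN : y ∈ N := by
          have := (N).mul_mem ((N).mul_mem ((N).inv_mem x.2) (hRN hy)) x.2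
          rwa [show (x : G)⁻¹ * ((x : G) * y * (x : G)⁻¹) * x = y by group] at this
        exact (hh ⟨y, hyN⟩).mpr hy
    · exact fun hh y => hh y
  have hidx : L.relIndex N = Nat.card (Sylow 7 N) := by
    exact ((S.card_eq_index_normalizer).trans (congrArg Subgroup.index hnorm)).symm
  have hmul : Nat.card L * L.relIndex N = 168 := by
    rw [← h.card_N, ← card_mul_index (L.subgroupOf N),
      Nat.card_congr (subgroupOfEquivOfLe (inf_le_left : L ≤ N)).toEquiv]
    rfl
  have hodd : Odd (Nat.card L) :=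
    h.odd_of_no_involution fun u hu hu2 => h.no_involution_normalizes hR hRN hu.1 hu2 hu.2
  have h7 : 7 ∣ Nat.card L := hR ▸ card_dvd_of_le (le_inf hRN le_normalizer)
  have hmod : Nat.card (Sylow 7 N) % 7 = 1 := card_sylow_modEq_one 7 N
  refine ⟨?_, fun A hA hAN => ?_⟩
  · have hd : Nat.card L ∈ Nat.divisors 21 :=
      Nat.mem_divisors.mpr ⟨h.dvd_21 inf_le_left hodd, by norm_num⟩
    rw [show Nat.divisors 21 = {1, 3, 7, 21} by decide] at hd
    simp only [Finset.mem_insert, Finset.mem_singleton] at hd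
    rw [hidx] at hmul
    rcases hd with hh | hh | hh | hh <;> rw [hh] at h7 hmul <;> omega
  · obtain ⟨n, hn⟩ := MulAction.exists_smul_eq N S (Sylow.ofCard (A.subgroupOf N) (hcard A hA hAN))
    refine ⟨n, n.2, ?_⟩
    have h1 : ((n • S : Sylow 7 N) : Subgroup N) = A.subgroupOf N := by rw [hn, Sylow.coe_ofCard]
    rw [Sylow.coe_subgroup_smul, hS, Sylow.coe_ofCard] at h1
    refine le_antisymm (fun x hx => ?_) (fun x hx => ?_)
    · have h2 : (⟨x, hAN hx⟩ : N) ∈ A.subgroupOf N := hx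
      rw [← h1] at h2
      obtain ⟨y, hy, hyx⟩ := h2
      exact ⟨(y : G), hy, congrArg Subtype.val hyx⟩
    · obtain ⟨y, hy, rfl⟩ := hx
      have h2 : (MulAut.conj n) ⟨y, hRN hy⟩ ∈ A.subgroupOf N := by
        rw [← h1]
        exact ⟨⟨y, hRN hy⟩, hy, rfl⟩
      exact h2

theorem conj_involution {R : Subgroup G} (hR : Nat.card R = 7) {v : G} (hv : orderOf v = 2)
    (hvR : v ∈ normalizer (R : Set G)) {s : G} (hs : s ∈ R) : v * s * v⁻¹ = s⁻¹ := by
  obtain ⟨r, hr, hr1, hr7, hR'⟩ := h.seven_gen hR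
  have h1 : v * r * v⁻¹ ∈ R := (mem_normalizer_iff.mp hvR r).mp hr
  rw [hR', mem_zpowers_iff] at h1 hs
  obtain ⟨k, hk⟩ := h1
  obtain ⟨j, rfl⟩ := hs
  have hv2 := (orderOf_eq_two.mp hv).1
  have ho : orderOf r = 7 := orderOf_eq_prime hr7 hr1 (hp := ⟨by norm_num⟩)
  have hkk : r = r ^ (k * k) := by
    calc r = v * (v * r * v⁻¹) * v⁻¹ := by
          rw [inv_eq_of_mul_eq_one_right hv2, show v * (v * r * v) * v = (v * v) * r * (v * v) by group,
            hv2]; group
      _ = (v * r * v⁻¹) ^ k := by nth_rewrite 1 [← hk]; rw [conj_zpow]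
      _ = r ^ (k * k) := by rw [← hk, ← zpow_mul]
  have h7 : (7 : ℤ) ∣ (k - 1) * (k + 1) := by
    have : r ^ (k * k - 1) = 1 := by rw [zpow_sub, ← hkk, zpow_one, mul_inv_cancel]
    have := orderOf_dvd_iff_zpow_eq_one.mpr this
    rw [ho] at this
    simpa [sub_mul, mul_add, add_comm, sub_add_eq_add_sub, show (k - 1) * (k + 1) = k * k - 1 by ring]
      using this
  rcases (Int.Prime.dvd_mul' (p := 7) (by norm_num) h7) with h8 | h8
  · exfalso
    obtain ⟨d, hd⟩ := h8
    have h9 : r ^ k = r := by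
      rw [show k = 1 + 7 * d by push_cast at hd; omega, zpow_add, zpow_one, zpow_mul]
      have : r ^ (7 : ℤ) = 1 := by exact_mod_cast hr7
      rw [this, one_zpow, mul_one]
    rw [h9] at hk
    exact hr1 (h.no_seven hv hr7 (by
      calc r * v = v * r * v⁻¹ * v := by rw [← hk]
        _ = v * r := by group))
  · obtain ⟨d, hd⟩ := h8
    have h9 : r ^ k = r⁻¹ := by
      rw [show k = -1 + 7 * d by push_cast at hd; omega, zpow_add, zpow_mul]
      have : r ^ (7 : ℤ) = 1 := by exact_mod_cast hr7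
      rw [this, one_zpow, mul_one, zpow_neg_one]
    rw [h9] at hk
    rw [← conj_zpow, ← hk, inv_zpow]

theorem exists_frame : ∃ (c : Ω) (R : Subgroup G), c ≠ pt ∧ Nat.card R = 7 ∧
    R ≤ two (P := P) c ∧ Nat.card Ω = 9 ∧
    (∀ d : Ω, d ≠ pt → R ≤ stabilizer G d → d = c) := by
  classical
  obtain ⟨c₀, hc₀⟩ := h.exists_ne_pt
  obtain ⟨⟨R, hR, hRc⟩, -⟩ := h.exists_seven hc₀
  have hRN : R ≤ N := hRc.trans inf_le_left
  obtain ⟨hL, hconj⟩ := h.card_seven_normalizer hR hRN
  obtain ⟨s, hs, hs1, hs7, hRs⟩ := h.seven_gen hR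
  set L := N ⊓ normalizer (R : Set G) with hLdef
  set X := {c : Ω // c ≠ pt ∧ R ≤ stabilizer G c} with hX
  haveI : Nonempty X := ⟨⟨c₀, hc₀, hRc.trans inf_le_right⟩⟩
  have hmove : ∀ n ∈ N, ∀ c : Ω, c ≠ pt → n • c ≠ pt := by
    intro n hn c hc hh
    exact hc (MulAction.injective n (hh.trans (smul_pt_eq_iff.mpr hn).symm))
  have hstab : ∀ (n : G) (d : Ω), R ≤ stabilizer G d →
      R.map (MulAut.conj n).toMonoidHom ≤ stabilizer G (n • d) := by
    intro n d hd x hx
    have h1 : (n⁻¹ * x * n) • d = d := hd (mem_map_conj.mp hx)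
    refine mem_stabilizer_iff.mpr ?_
    calc x • n • d = n • (n⁻¹ * x * n) • d := by simp only [mul_smul, smul_inv_smul]
      _ = n • d := by rw [h1]
  have hconjN : ∀ n ∈ N, R.map (MulAut.conj n).toMonoidHom ≤ N := by
    intro n hn x hx
    have h2 := (N).mul_mem ((N).mul_mem hn (hRN (mem_map_conj.mp hx))) ((N).inv_mem hn)
    rwa [show n * (n⁻¹ * x * n) * n⁻¹ = x by group] at h2
  -- the orbit of `X` under `N`
  set L' := L.subgroupOf N with hL'
  let F : (N ⧸ L') × X → {c : Ω // c ≠ pt} := fun p =>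
    ⟨((p.1.out : N) : G) • (p.2.1 : Ω), hmove _ (p.1.out).2 _ p.2.2.1⟩
  have hFinj : Function.Injective F := by
    rintro ⟨q, x⟩ ⟨q', x'⟩ hxy
    have he : ((q.out : N) : G) • (x.1 : Ω) = ((q'.out : N) : G) • (x'.1 : Ω) := congrArg Subtype.val hxy
    set n := ((q.out : N) : G) with hn
    set n' := ((q'.out : N) : G) with hn'
    have hmaps : R.map (MulAut.conj n).toMonoidHom = R.map (MulAut.conj n').toMonoidHom :=
      h.seven_unique (hmove n q.out.2 _ x.2.1) (by rw [card_map_conj, hR]) (by rw [card_map_conj, hR])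
        (le_inf (hconjN n q.out.2) (hstab n _ x.2.2))
        (le_inf (hconjN n' q'.out.2) (he ▸ hstab n' _ x'.2.2))
    have hmemL : n⁻¹ * n' ∈ L := by
      refine ⟨(N).mul_mem ((N).inv_mem q.out.2) q'.out.2, mem_normalizer_iff.mpr fun y => ?_⟩
      have h1 := SetLike.ext_iff.mp hmaps (n' * y * n'⁻¹)
      rw [mem_map_conj, mem_map_conj,
        show n'⁻¹ * (n' * y * n'⁻¹) * n' = y by group] at h1
      rw [← h1, show n⁻¹ * (n' * y * n'⁻¹) * n = n⁻¹ * n' * y * (n⁻¹ * n')⁻¹ by group]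
    have hq : q = q' := by
      rw [← QuotientGroup.out_eq' q, ← QuotientGroup.out_eq' q', QuotientGroup.eq]
      exact hmemL
    subst hq
    exact Prod.ext rfl (Subtype.ext (MulAction.injective _ he))
  have hFsur : Function.Surjective F := by
    rintro ⟨d, hd⟩
    obtain ⟨⟨S, hS, hSd⟩, -⟩ := h.exists_seven hd
    obtain ⟨n, hn, rfl⟩ := hconj S hS (hSd.trans inf_le_left)
    set q : N ⧸ L' := QuotientGroup.mk ⟨n, hn⟩ with hq
    obtain ⟨l, hl⟩ := QuotientGroup.mk_out_eq_mul L' ⟨n, hn⟩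
    have hlL : (((l : L') : N) : G) ∈ L := l.2
    set l₀ := (((l : L') : N) : G)
    have hout : ((q.out : N) : G) = n * l₀ := congrArg Subtype.val hl
    have hxmem : (n * l₀)⁻¹ • d ≠ pt ∧ R ≤ stabilizer G ((n * l₀)⁻¹ • d) := by
      refine ⟨hmove _ ((N).inv_mem ((N).mul_mem hn hlL.1)) _ hd, fun x hx => ?_⟩
      have h1 : l₀ * x * l₀⁻¹ ∈ R := (mem_normalizer_iff.mp hlL.2 x).mp hx
      have h2 : (n * (l₀ * x * l₀⁻¹) * n⁻¹) • d = d := (hSd ⟨_, h1, rfl⟩).2
      refine mem_stabilizer_iff.mpr ?_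
      calc x • (n * l₀)⁻¹ • d = (n * l₀)⁻¹ • (n * (l₀ * x * l₀⁻¹) * n⁻¹) • d := by
            simp only [smul_smul]; congr 1; group
        _ = (n * l₀)⁻¹ • d := by rw [h2]
    exact ⟨(q, ⟨_, hxmem⟩), Subtype.ext (by
      change ((q.out : N) : G) • (n * l₀)⁻¹ • d = d
      rw [hout, smul_inv_smul])⟩
  have h8 : Nat.card (N ⧸ L') = 8 := by
    have h1 := card_eq_card_quotient_mul_card_subgroup L'
    rw [Nat.card_congr (subgroupOfEquivOfLe (inf_le_left : L ≤ N)).toEquiv, hL, h.card_N] at h1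
    omega
  have hcount : Nat.card {c : Ω // c ≠ pt} = 8 * Nat.card X := by
    rw [← Nat.card_eq_of_bijective F ⟨hFinj, hFsur⟩, Nat.card_prod, h8]
  have hΩ : Nat.card Ω = Nat.card {c : Ω // c ≠ pt} + 1 := by
    rw [← Nat.card_congr (Equiv.sumCompl fun c : Ω => c ≠ pt), Nat.card_sum]
    congr 1
    haveI : Subsingleton {c : Ω // ¬ c ≠ pt} :=
      ⟨fun x y => Subtype.ext ((not_not.mp x.2).trans (not_not.mp y.2).symm)⟩
    haveI : Nonempty {c : Ω // ¬ c ≠ pt} := ⟨⟨pt, not_not.mpr rfl⟩⟩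
    exact Nat.card_unique
  -- the normaliser of `R`
  set NR := normalizer (R : Set G) with hNR
  have hfixmem : ∀ g : NR, R ≤ stabilizer G ((g : G) • pt) := by
    intro g x hx
    have h1 : (g : G)⁻¹ * x * g ∈ R := by
      have := (mem_normalizer_iff.mp (inv_mem g.2) x).mp hx
      rwa [inv_inv] at this
    refine mem_stabilizer_iff.mpr ?_
    calc x • (g : G) • pt = (g : G) • ((g : G)⁻¹ * x * g) • pt := by
          simp only [mul_smul, smul_inv_smul]
      _ = (g : G) • pt := by rw [smul_pt_eq_iff.mpr (hRN h1)]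
  set Fix := {c : Ω // R ≤ stabilizer G c} with hFix
  have hFixcard : Nat.card Fix = Nat.card X + 1 := by
    rw [← Nat.card_congr (Equiv.sumCompl fun c : Fix => c.1 ≠ pt), Nat.card_sum]
    congr 1
    · exact Nat.card_congr
        { toFun := fun c => ⟨c.1.1, c.2, c.1.2⟩
          invFun := fun c => ⟨⟨c.1, c.2.2⟩, c.2.1⟩
          left_inv := fun c => rfl
          right_inv := fun c => rfl }
    · haveI : Subsingleton {c : Fix // ¬ c.1 ≠ pt} :=
        ⟨fun x y => Subtype.ext (Subtype.ext ((not_not.mp x.2).trans (not_not.mp y.2).symm))⟩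
      haveI : Nonempty {c : Fix // ¬ c.1 ≠ pt} :=
        ⟨⟨⟨pt, fun x hx => smul_pt_eq_iff.mpr (hRN hx)⟩, not_not.mpr rfl⟩⟩
      exact Nat.card_unique
  have hNRcard : Nat.card NR = 21 * (Nat.card X + 1) := by
    set L'' := L.subgroupOf NR with hL''
    have h1 := card_eq_card_quotient_mul_card_subgroup L''
    rw [Nat.card_congr (subgroupOfEquivOfLe (inf_le_right : L ≤ NR)).toEquiv, hL] at h1
    rw [h1, mul_comm 21, ← hFixcard]
    congr 1
    refine Nat.card_eq_of_bijective (Quotient.lift (fun g : NR => (⟨(g : G) • pt, hfixmem g⟩ : Fix)) ?_)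
      ⟨?_, ?_⟩
    · intro x y hxy
      have hh' : x⁻¹ * y ∈ L'' := QuotientGroup.leftRel_apply.mp hxy
      have hh : (x : G)⁻¹ * y ∈ L := hh'
      refine Subtype.ext ?_
      calc (x : G) • pt = (x : G) • ((x : G)⁻¹ * y) • pt := by rw [smul_pt_eq_iff.mpr hh.1]
        _ = (y : G) • pt := by rw [mul_smul, smul_inv_smul]
    · intro x y hxy
      induction x using QuotientGroup.induction_on with
      | H x =>
      induction y using QuotientGroup.induction_on with
      | H y =>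
        have hh : (x : G) • pt = (y : G) • pt := congrArg Subtype.val hxy
        rw [QuotientGroup.eq]
        refine ⟨smul_pt_eq_iff.mp ?_, (x⁻¹ * y : NR).2⟩
        change ((x : G)⁻¹ * y) • pt = pt
        rw [mul_smul, ← hh, inv_smul_smul]
    · rintro ⟨d, hd⟩
      obtain ⟨g, rfl⟩ := QuotientGroup.mk_surjective d
      rw [← smul_pt] at hd
      have hle : R.map (MulAut.conj g⁻¹).toMonoidHom ≤ N := by
        intro x hx
        have h2 : (g * x * g⁻¹) • g • pt = g • pt := hd (by simpa [mul_assoc] using mem_map_conj.mp hx)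
        rw [mul_smul, mul_smul, inv_smul_smul] at h2
        exact smul_pt_eq_iff.mp (MulAction.injective g h2)
      obtain ⟨n, hn, hn'⟩ := hconj _ (by rw [card_map_conj, hR]) hle
      have hmem : g * n ∈ NR := by
        rw [hNR, mem_normalizer_iff]
        intro y
        have h3 := SetLike.ext_iff.mp hn' (n * y * n⁻¹)
        rw [mem_map_conj, mem_map_conj, show n⁻¹ * (n * y * n⁻¹) * n = y by group, inv_inv] at h3
        rw [← h3, show g * (n * y * n⁻¹) * g⁻¹ = g * n * y * (g * n)⁻¹ by group]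
      refine ⟨QuotientGroup.mk ⟨g * n, hmem⟩, Subtype.ext ?_⟩
      change (g * n) • pt = _
      rw [mul_smul, smul_pt_eq_iff.mpr hn, smul_pt]
  -- involutions inverting `R`
  obtain ⟨v₀, hv₀, hv₀c⟩ := h.exists_swap hc₀
  have hswapN : ∀ (c : Ω), c ≠ pt → R ≤ stabilizer G c → ∀ v : G, orderOf v = 2 → v • pt = c →
      v ∈ NR := by
    intro c hc hcR v hv hvc
    have hv1 := (orderOf_eq_two.mp hv).1
    have heq : R.map (MulAut.conj v).toMonoidHom = R := by
      refine h.seven_unique hc (by rw [card_map_conj, hR]) hR ?_ (le_inf hRN hcR)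
      rintro _ ⟨x, hx, rfl⟩
      exact swap_normalizes hv1 hvc ⟨hRN hx, hcR hx⟩
    rw [hNR, mem_normalizer_iff_map_conj_eq]
    exact heq
  set CR := centralizer ({s} : Set G) with hCR
  have hinv : ∀ v : G, orderOf v = 2 → v ∈ NR → v * s * v⁻¹ = s⁻¹ := fun v hv hvR =>
    h.conj_involution hR hv hvR hs
  have hv₀R := hswapN c₀ hc₀ (hRc.trans inf_le_right) v₀ hv₀ hv₀c
  have h7x : 7 * Nat.card X ≤ Nat.card CR := by
    have hc : Nat.card (Σ x : X, {v : {v : G // orderOf v = 2} // (v : G) • pt = x.1}) = 7 * Nat.card X := by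
      haveI := Fintype.ofFinite X
      rw [Nat.card_sigma, Finset.sum_congr rfl (fun x _ => h.swap_eq x.2.1), Finset.sum_const,
        Finset.card_univ, smul_eq_mul, Nat.card_eq_fintype_card, mul_comm]
    rw [← hc]
    refine Nat.card_le_card_of_injective (fun p => ⟨v₀ * p.2.1.1, ?_⟩) ?_
    · refine mem_centralizer_singleton_iff.mpr ?_
      have h1 := hinv v₀ hv₀ hv₀R
      have h2 := hinv _ p.2.1.2 (hswapN _ p.1.2.1 p.1.2.2 _ p.2.1.2 p.2.2)
      set w := p.2.1.1
      calc v₀ * w * s = v₀ * (w * s * w⁻¹) * w := by group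
        _ = (v₀ * s * v₀⁻¹)⁻¹ * (v₀ * w) := by rw [h2]; group
        _ = s * (v₀ * w) := by rw [h1, inv_inv]
    · rintro ⟨x, w⟩ ⟨x', w'⟩ hxy
      have hw : (w.1.1 : G) = w'.1.1 := mul_left_cancel (congrArg Subtype.val hxy)
      have hx : x = x' := Subtype.ext (by rw [← w.2, ← w'.2, hw])
      subst hx
      rw [Sigma.mk.injEq]
      exact ⟨rfl, heq_of_eq (Subtype.ext (Subtype.ext hw))⟩
  have h6 : 6 * Nat.card CR ≤ Nat.card NR := by
    set ψ := R.normalizerMonoidHom with hψ
    have hker : Nat.card ψ.ker = Nat.card CR := by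
      rw [hψ, normalizerMonoidHom_ker, hRs, hCR]
      rw [show centralizer ((zpowers s : Subgroup G) : Set G) = centralizer ({s} : Set G) from ?_]
      · refine Nat.card_congr (subgroupOfEquivOfLe ?_).toEquiv
        intro x hx
        have hxs : x * s = s * x := mem_centralizer_singleton_iff.mp hx
        rw [mem_normalizer_iff_map_conj_eq, MonoidHom.map_zpowers]
        congr 1
        change x * s * x⁻¹ = s
        rw [hxs]; group
      · rw [zpowers_eq_closure, centralizer_closure]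
    rw [card_eq_card_quotient_mul_card_subgroup ψ.ker, hker]
    refine Nat.mul_le_mul_right _ ?_
    rw [Nat.card_congr (QuotientGroup.quotientKerEquivRange ψ).toEquiv]
    haveI : Fact (Nat.Prime 3) := ⟨Nat.prime_three⟩
    obtain ⟨r, hr⟩ := exists_prime_orderOf_dvd_card' (G := L) 3 (by rw [hL]; norm_num)
    have hr3 : (r : G) ^ 3 = 1 := by rw [← hr, ← orderOf_subtype, pow_orderOf_eq_one]
    set rr : NR := ⟨r, r.2.2⟩
    set vv : NR := ⟨v₀, hv₀R⟩
    have hne : ∀ x : NR, ψ x = 1 → (x : G) * s = s * x := by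
      intro x hx
      have h1 := congrArg Subtype.val (DFunLike.congr_fun hx ⟨s, hs⟩)
      change (x : G) * s * (x : G)⁻¹ = s at h1
      calc (x : G) * s = (x : G) * s * (x : G)⁻¹ * x := by group
        _ = s * x := by rw [h1]
    have e3 : orderOf (ψ.rangeRestrict rr) = 3 := by
      refine orderOf_eq_prime (by rw [← map_pow, show rr ^ 3 = 1 from Subtype.ext hr3, map_one]) ?_
      intro hh
      have h1 : (r : G) = 1 := h.no21 r.2.1 (hRN hs) hs7 hs1 hr3 (hne rr (congrArg Subtype.val hh))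
      rw [OneMemClass.coe_eq_one.mp h1, orderOf_one] at hr
      omega
    have e2 : orderOf (ψ.rangeRestrict vv) = 2 := by
      refine orderOf_eq_two.mpr ⟨?_, ?_⟩
      · rw [← map_mul, show vv * vv = 1 from Subtype.ext (orderOf_eq_two.mp hv₀).1, map_one]
      · intro hh
        exact hs1 (h.no_seven hv₀ hs7 (hne vv (congrArg Subtype.val hh)).symm)
    have d3 := e3 ▸ orderOf_dvd_natCard (ψ.rangeRestrict rr)
    have d2 := e2 ▸ orderOf_dvd_natCard (ψ.rangeRestrict vv)
    exact Nat.le_of_dvd Nat.card_pos ((Nat.Coprime.mul_dvd_of_dvd_of_dvd (by decide) d2 d3 : 2 * 3 ∣ _))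
  have hX1 : Nat.card X = 1 := by
    have : 0 < Nat.card X := Nat.card_pos
    omega
  haveI : Subsingleton X := (Nat.card_eq_one_iff_unique.mp hX1).1
  refine ⟨c₀, R, hc₀, hR, hRc, by omega, fun d hd hdR => ?_⟩
  exact congrArg Subtype.val (Subsingleton.elim (⟨d, hd, hdR⟩ : X) ⟨c₀, hc₀, hRc.trans inf_le_right⟩)

end Four

end Cfsg.Agent.TwoTimesAlt
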