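import Mathlib.GroupTheory.IndexNormal
import Cfsg.Agent.Lib.Invol.TwoTimesAlt.Basic

/-!
# Centraliser `2 × A_4` or `2 × A_5`: fusion and the subgroup generated by the involutions
-/

set_option autoImplicit false

namespace Cfsg.Agent.TwoTimesAlt

open Subgroup
open scoped Pointwise

variable {G : Type*} [Group G] [Finite G]

theorem VFacts.of_equiv {A B : Type*} [Group A] [Group B] {a b : A} (h : VFacts a b)
    (f : A ≃* B) : VFacts (f a) (f b) := by
  have pull : ∀ t : B, ∃ s, f s = t := f.surjective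
  constructor
  · rw [← map_mul, h.ha, map_one]
  · simpa using h.ha1
  · rw [← map_mul, h.hb, map_one]
  · simpa using h.hb1
  · simpa using h.hab
  · rw [← map_mul, h.hcomm, map_mul]
  · intro t h1 h2
    obtain ⟨s, rfl⟩ := pull t
    rw [← map_mul, MulEquiv.map_eq_one_iff] at h1
    obtain ⟨c, hc⟩ := h.one_class s h1 (by simpa using h2)
    exact ⟨f c, by rw [← map_inv, ← map_mul, ← map_mul, hc]⟩
  · intro t h1 h2
    obtain ⟨s, rfl⟩ := pull t
    rw [← map_mul, MulEquiv.map_eq_one_iff] at h1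
    rw [← map_mul, ← map_mul, f.injective.eq_iff] at h2
    rcases h.four s h1 h2 with rfl | rfl | rfl | rfl <;> simp
  · intro t h1
    obtain ⟨s, rfl⟩ := pull t
    rw [← map_pow, MulEquiv.map_eq_one_iff] at h1
    rw [← map_mul, h.two_sq s h1, map_one]
  · intro t h1 h2
    obtain ⟨s, rfl⟩ := pull t
    rw [← map_mul, ← map_mul, f.injective.eq_iff] at h1 h2
    rcases h.cent s h1 h2 with rfl | rfl | rfl | rfl <;> simp
  · intro t h1
    obtain ⟨s, rfl⟩ := pull t
    have := h.oddsub s (fun hh => h1 (by rw [← map_mul, hh, map_one]))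
    simpa only [OddBreak, ← map_mul, ← map_inv, MulEquiv.map_eq_one_iff, ne_eq]
      using this

/-- `x` lies in `{1, a, b, a b}`. -/
abbrev InV {A : Type*} [Group A] (a b x : A) : Prop := x = 1 ∨ x = a ∨ x = b ∨ x = a * b

/-- Centraliser `2 × A_4` or `2 × A_5`, with the Sylow 2-subgroup `⟨J, a, b⟩`. -/
structure Small (J : G) (T : Subgroup G) (P : Sylow 2 G) (a b : T) : Prop extends Setup J T where
  facts : VFacts a b
  cardT : Nat.card T = 12 ∨ Nat.card T = 60
  JP : J ∈ P
  PC : (P : Subgroup G) ≤ centralizer ({J} : Set G)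
  cardP : Nat.card P = 8
  memP : ∀ p ∈ P, (InV (a : G) b p ∨ InV (a : G) b (J * p))
  aP : (a : G) ∈ P
  bP : (b : G) ∈ P

omit [Finite G] in
theorem inV_coe {T : Subgroup G} {a b x : T} : InV (a : G) b x ↔ InV a b x := by
  simp only [InV, Subtype.ext_iff, coe_mul, coe_one]

theorem exists_small {J : G} {T : Subgroup G} (h : Setup J T) {A : Type*} [Group A] [Finite A]
    (e : T ≃* A) (hA : Nat.card A = 12 ∨ Nat.card A = 60) {a₀ b₀ : A} (hV : VFacts a₀ b₀) :
    ∃ (P : Sylow 2 G) (a b : T), Small J T P a b ∧ ∃ f : T ≃* A, f a = a₀ ∧ f b = b₀ := by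
  obtain ⟨P, hJP, hPC, -⟩ := h.exists_conj
  have hT : Nat.card T = 12 ∨ Nat.card T = 60 := by rwa [Nat.card_congr e.toEquiv]
  set C := centralizer ({J} : Set G) with hC
  have hCT : Nat.card T * 2 = Nat.card C := by
    have h1 := h.relIndex_eq_two le_rfl h.J_mem
    rw [← hC, inf_eq_right.mpr h.T_le, relIndex] at h1
    rw [← h1, ← Nat.card_congr (subgroupOfEquivOfLe h.T_le).toEquiv, card_mul_index]
  obtain ⟨k, hk⟩ := IsPGroup.iff_card.mp P.isPGroup'
  have hdvd : Nat.card P ∣ Nat.card C := card_dvd_of_le hPC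
  have h8 : 2 ^ 3 ∣ Nat.card P := by
    refine P.pow_dvd_card_of_pow_dvd_card (dvd_trans ?_ (card_subgroup_dvd_card C))
    rcases hT with hT | hT <;> rw [← hCT, hT] <;> decide
  have hk3 : 3 ≤ k := (Nat.pow_dvd_pow_iff_le_right (by norm_num)).mp (hk ▸ h8)
  have hk3' : k ≤ 3 := by
    by_contra hh
    have h16 : 2 ^ 4 ∣ Nat.card C := (pow_dvd_pow 2 (by omega : 4 ≤ k)).trans (hk ▸ hdvd)
    rcases hT with hT | hT <;> rw [← hCT, hT] at h16 <;> revert h16 <;> decide
  have hP8 : Nat.card P = 8 := by rw [hk, show k = 3 by omega]; norm_num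
  set Q : Subgroup T := (P : Subgroup G).subgroupOf T with hQdef
  have hQ : Nat.card Q = 4 := by
    have h1 := h.relIndex_eq_two hPC hJP
    have h2 := card_mul_index (((P : Subgroup G) ⊓ T).subgroupOf (P : Subgroup G))
    rw [← relIndex, h1, Nat.card_congr (subgroupOfEquivOfLe inf_le_left).toEquiv, hP8] at h2
    rw [← Nat.card_congr (subgroupOfEquivOfLe (inf_le_right : (P : Subgroup G) ⊓ T ≤ T)).toEquiv,
      inf_subgroupOf_right, ← hQdef] at h2
    omega
  have hsq : ∀ q ∈ Q, q * q = 1 := fun q hq => by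
    apply e.injective
    rw [map_mul, map_one]
    refine hV.two_sq _ ?_
    rw [← map_pow, show q ^ 4 = 1 from ?_, map_one]
    have := pow_card_eq_one' (x := (⟨q, hq⟩ : Q))
    rw [hQ] at this
    exact congrArg Subtype.val this
  have hcomm : ∀ p ∈ Q, ∀ q ∈ Q, p * q = q * p := fun p hp q hq => by
    have h1 := hsq _ (mul_mem hp hq)
    have h2 := inv_eq_of_mul_eq_one_right h1
    rw [mul_inv_rev, inv_eq_of_mul_eq_one_right (hsq p hp),
      inv_eq_of_mul_eq_one_right (hsq q hq)] at h2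
    exact h2.symm
  haveI : Nontrivial Q := Finite.one_lt_card_iff_nontrivial.mp (by omega)
  obtain ⟨q₁, hq₁, hq₁1⟩ := (Subgroup.nontrivial_iff_exists_ne_one Q).mp this
  obtain ⟨c, hc⟩ := hV.one_class (e q₁) (by rw [← map_mul, hsq q₁ hq₁, map_one]) (by simpa using hq₁1)
  set f : T ≃* A := e.trans (MulAut.conj c⁻¹) with hfdef
  have hf1 : f q₁ = a₀ := by
    change c⁻¹ * e q₁ * c⁻¹⁻¹ = a₀
    rw [← hc]; group
  obtain ⟨a, ha⟩ : ∃ a, f a = a₀ := f.surjective _
  obtain ⟨b, hb⟩ : ∃ b, f b = b₀ := f.surjective _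
  have hab : ∀ q : T, InV a₀ b₀ (f q) → InV a b q := fun q hq => by
    simp only [InV, ← ha, ← hb, ← map_mul] at hq
    rw [ f.injective.eq_iff, f.injective.eq_iff, f.injective.eq_iff,
      MulEquiv.map_eq_one_iff] at hq
    exact hq
  have hQV : ∀ q ∈ Q, InV a b q := fun q hq => by
    refine hab q (hV.four _ (by rw [← map_mul, hsq q hq, map_one]) ?_)
    rw [← hf1, ← map_mul, ← map_mul, hcomm q hq q₁ hq₁]
  have haq : a = q₁ := f.injective (ha.trans hf1.symm)
  have hbQ : b ∈ Q := by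
    by_contra hb'
    classical
    have h1 : (Q : Set T) ⊆ {1, a} := by
      intro q hq
      rcases hQV q hq with hh | hh | hh | hh
      · exact Or.inl hh
      · exact Or.inr hh
      · exact absurd (hh ▸ hq) hb'
      · refine absurd ?_ hb'
        have : b = a * q := by rw [hh, ← mul_assoc, haq, hsq q₁ hq₁, one_mul]
        exact this ▸ mul_mem (haq ▸ hq₁) hq
    have h2 := Set.ncard_le_ncard h1 (Set.toFinite _)
    have h3 : ({1, a} : Set T).ncard ≤ 2 :=
      (Set.ncard_insert_le _ _).trans (by rw [Set.ncard_singleton])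
    have h4 : (Q : Set T).ncard = 4 := by rw [← Nat.card_coe_set_eq]; exact hQ
    omega
  refine ⟨P, a, b, { h with
    facts := ?_
    cardT := hT
    JP := hJP
    PC := hPC
    cardP := hP8
    aP := haq ▸ hq₁
    bP := hbQ
    memP := ?_ }, f, ha, hb⟩
  · have := hV.of_equiv f.symm
    rwa [← ha, ← hb, f.symm_apply_apply, f.symm_apply_apply] at this
  · intro p hp
    rcases h.split (hPC hp) with ht | ht
    · exact Or.inl (inV_coe.mpr (hQV ⟨p, ht⟩ hp))
    · exact Or.inr (inV_coe.mpr (hQV ⟨J * p, ht⟩ (mul_mem hJP hp : J * p ∈ (P : Subgroup G))))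

namespace Small

variable {J : G} {T : Subgroup G} {P : Sylow 2 G} {a b : T} (h : Small J T P a b)
include h

theorem inV_T {x : G} (hx : InV (a : G) b x) : x ∈ T := by
  rcases hx with rfl | rfl | rfl | rfl
  exacts [one_mem T, a.2, b.2, mul_mem a.2 b.2]

theorem inV_P {x : G} (hx : InV (a : G) b x) : x ∈ P := by
  rcases hx with rfl | rfl | rfl | rfl
  exacts [one_mem (P : Subgroup G), h.aP, h.bP, mul_mem h.aP h.bP]

theorem inV_sq {x : G} (hx : InV (a : G) b x) : x * x = 1 := by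
  have h1 := h.facts
  obtain ⟨y, rfl⟩ : ∃ y : T, (y : G) = x := ⟨⟨x, h.inV_T hx⟩, rfl⟩
  rw [inV_coe] at hx
  rcases hx with rfl | rfl | rfl | rfl
  · simp
  · rw [← coe_mul, h1.ha, coe_one]
  · rw [← coe_mul, h1.hb, coe_one]
  · rw [← coe_mul, show a * b * (a * b) = (a * a) * (b * b) by
      rw [mul_assoc, ← mul_assoc b, ← h1.hcomm]; group, h1.ha, h1.hb, one_mul, coe_one]

theorem sq {p : G} (hp : p ∈ P) : p * p = 1 := by
  rcases h.memP p hp with hh | hh
  · exact h.inV_sq hh
  · have hc : p * J = J * p := mem_centralizer_singleton_iff.mp (h.PC hp)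
    have := h.inV_sq hh
    rwa [show J * p * (J * p) = J * (p * J) * p by group, hc, ← mul_assoc, h.sqJ, one_mul] at this

theorem comm_P {p q : G} (hp : p ∈ P) (hq : q ∈ P) : p * q = q * p := by
  have h1 : (p * q)⁻¹ = p * q :=
    inv_eq_of_mul_eq_one_right (h.sq (mul_mem hp hq : p * q ∈ (P : Subgroup G)))
  rw [mul_inv_rev, inv_eq_of_mul_eq_one_right (h.sq hp), inv_eq_of_mul_eq_one_right (h.sq hq)] at h1
  exact h1.symm

theorem commutativeP : IsMulCommutative (P : Subgroup G) :=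
  ⟨⟨fun p q => Subtype.ext (h.comm_P p.2 q.2)⟩⟩

theorem order_P {p : G} (hp : p ∈ P) (h1 : p ≠ 1) : orderOf p = 2 :=
  orderOf_eq_two.mpr ⟨h.sq hp, h1⟩

theorem a_order : orderOf (a : G) = 2 := by
  rw [orderOf_subtype, orderOf_eq_two]; exact ⟨h.facts.ha, h.facts.ha1⟩

theorem mem_inf_iff {x : G} : x ∈ (P : Subgroup G) ⊓ T ↔ InV (a : G) b x := by
  refine ⟨fun hx => ?_, fun hx => ⟨h.inV_P hx, h.inV_T hx⟩⟩
  rcases h.memP x hx.1 with hh | hh
  · exact hh
  · exact absurd (h.inV_T hh) (h.J_mul_mem hx.2)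

/-- All involutions are conjugate. -/
theorem exists_conj_eq {v : G} (hv : orderOf v = 2) : ∃ g : G, g * J * g⁻¹ = v := by
  have hT : ∀ x ∈ T, orderOf x = 2 → ∃ g : G, g * (a : G) * g⁻¹ = x := fun x hx ho => by
    have h2 := orderOf_eq_two.mp (show orderOf (⟨x, hx⟩ : T) = 2 by rw [← orderOf_subtype, ho])
    obtain ⟨c, hc⟩ := h.facts.one_class ⟨x, hx⟩ h2.1 h2.2
    exact ⟨c, congrArg Subtype.val hc⟩
  have key : ∀ u ∈ P, orderOf u = 2 → ∃ g : G, g * u * g⁻¹ = a := by
    intro u hu ho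
    by_cases huT : u ∈ T
    · obtain ⟨g, hg⟩ := hT u huT ho
      exact ⟨g⁻¹, by rw [← hg]; group⟩
    · rcases Cfsg.Agent.S0111.result P ((P : Subgroup G) ⊓ T) inf_le_left
          (h.relIndex_eq_two h.PC h.JP) u ho hu (fun hh => huT hh.2) with ⟨M, hM, hi, -⟩ | ⟨g, hg⟩
      · exact absurd hi (h.noIdx M hM)
      · obtain ⟨k, hk⟩ := hT _ hg.2 (by rw [orderOf_conj, ho])
        exact ⟨k⁻¹ * g, by
          calc k⁻¹ * g * u * (k⁻¹ * g)⁻¹ = k⁻¹ * (g * u * g⁻¹) * k := by group
            _ = k⁻¹ * (k * (a : G) * k⁻¹) * k := by rw [hk]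
            _ = a := by group⟩
  obtain ⟨g, hg⟩ := exists_conj_mem P hv
  obtain ⟨k, hk⟩ := key _ hg (by rw [orderOf_conj, hv])
  obtain ⟨l, hl⟩ := key J h.JP h.oJ
  refine ⟨g⁻¹ * k⁻¹ * l, ?_⟩
  calc g⁻¹ * k⁻¹ * l * J * (g⁻¹ * k⁻¹ * l)⁻¹ = g⁻¹ * k⁻¹ * (l * J * l⁻¹) * k * g := by group
    _ = g⁻¹ * k⁻¹ * (k * (g * v * g⁻¹) * k⁻¹) * k * g := by rw [hl, hk]
    _ = v := by group

/-- The normaliser of the Sylow 2-subgroup is transitive on its involutions. -/
theorem exists_normalizer {v : G} (hvP : v ∈ P) (hv : v ≠ 1) :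
    ∃ n ∈ normalizer ((P : Subgroup G) : Set G), n * J * n⁻¹ = v := by
  obtain ⟨g, hg⟩ := h.exists_conj_eq (h.order_P hvP hv)
  haveI := h.commutativeP
  have h1 : g⁻¹⁻¹ * J * g⁻¹ = v := by rw [inv_inv, hg]
  obtain ⟨n, hn, hn'⟩ := P.conj_eq_normalizer_conj_of_mem J g⁻¹ h.JP (h1.symm ▸ hvP)
  exact ⟨n⁻¹, inv_mem hn, by rw [inv_inv, ← hn', h1]⟩

theorem odd_inf_eq_bot {K : Subgroup G} (hK : Odd (Nat.card K))
    (hP : (P : Subgroup G) ≤ normalizer (K : Set G)) {k : G} (hk : k ∈ K)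
    (hkC : k * J = J * k) : k = 1 := by
  obtain ⟨r, hr⟩ := hK
  have hord : k ^ (2 * r + 1) = 1 := by
    have := pow_card_eq_one' (x := (⟨k, hk⟩ : K))
    rw [hr] at this
    exact congrArg Subtype.val this
  have hkT : k ∈ T := by
    rcases h.split (mem_centralizer_singleton_iff.mpr hkC) with ht | ht
    · exact ht
    have hsq : k * k ∈ T := by
      have := mul_mem ht ht
      rwa [show J * k * (J * k) = J * (k * J) * k by group, hkC, ← mul_assoc, h.sqJ, one_mul] at this
    have h1 : k = (k * k) ^ (r + 1) := by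
      rw [← pow_two, ← pow_mul, show 2 * (r + 1) = (2 * r + 1) + 1 by ring, pow_succ, hord, one_mul]
    exact h1 ▸ pow_mem hsq _
  have h15 : ∀ t : T, (t : G) ∈ K → t ^ 15 = 1 := by
    intro t ht
    have h60 : orderOf t ∣ 4 * 15 := by
      rcases h.cardT with hT | hT
      · exact (orderOf_dvd_natCard t).trans (hT ▸ by decide)
      · exact (orderOf_dvd_natCard t).trans (hT ▸ by decide)
    have hodd : orderOf t ∣ 2 * r + 1 := by
      rw [← hr, ← orderOf_subtype]
      exact (orderOf_injective K.subtype K.subtype_injective ⟨(t : G), ht⟩).symm ▸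
        (orderOf_dvd_natCard (⟨(t : G), ht⟩ : K))
    have hcop : Nat.Coprime (orderOf t) 4 := by
      rw [show (4 : ℕ) = 2 ^ 2 by norm_num]
      refine Nat.Coprime.pow_right 2 (Nat.Coprime.coprime_dvd_left hodd ?_)
      rw [Nat.coprime_comm, Nat.Prime.coprime_iff_not_dvd Nat.prime_two]
      omega
    exact orderOf_dvd_iff_pow_eq_one.mp (hcop.dvd_of_dvd_mul_left h60)
  by_contra hk1
  set t : T := ⟨k, hkT⟩
  have hconj : ∀ q : T, InV a b q → ((q * t * q : T) : G) ∈ K := by
    intro q hq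
    have hq2 := h.inV_sq (inV_coe.mpr hq)
    have := (mem_normalizer_iff.mp (hP (h.inV_P (inV_coe.mpr hq))) k).mp hk
    rwa [inv_eq_of_mul_eq_one_right hq2] at this
  have hno : ∀ q : T, InV a b q → ¬ OddBreak t q := by
    intro q hq hbr
    have hone : ∀ x : T, (x : G) ∈ K → x * x = 1 → x = 1 := fun x hx hxx => by
      have := h15 x hx
      rwa [show 15 = 2 * 7 + 1 from rfl, pow_succ, pow_mul, pow_two, hxx, one_pow, one_mul] at this
    rcases hbr with ⟨h2, hne⟩ | ⟨h2, hne⟩ <;> refine hne (hone _ ?_ h2)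
    · rw [coe_mul, coe_mul]; exact mul_mem (mul_mem hk hk) (hconj q hq)
    · rw [coe_mul, coe_mul, coe_mul, coe_inv]
      exact mul_mem (mul_mem (mul_mem hk (hconj q hq)) (inv_mem hk)) (hconj q hq)
  have ht2 : t * t ≠ 1 := fun hh => hk1 (congrArg Subtype.val (show t = 1 by
    have := h15 t hk
    rwa [show 15 = 2 * 7 + 1 from rfl, pow_succ, pow_mul, pow_two, hh, one_pow, one_mul] at this))
  rcases h.facts.oddsub t ht2 with hh | hh | hh
  exacts [hno a (Or.inr (Or.inl rfl)) hh, hno b (Or.inr (Or.inr (Or.inl rfl))) hh,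
    hno _ (Or.inr (Or.inr (Or.inr rfl))) hh]

/-- A subgroup of odd order normalised by the Sylow 2-subgroup is trivial. -/
theorem odd_eq_bot {K : Subgroup G} (hK : Odd (Nat.card K))
    (hP : (P : Subgroup G) ≤ normalizer (K : Set G)) : K = ⊥ := by
  have hfix : ∀ v ∈ P, v ≠ 1 → ∀ k ∈ K, v * k * v⁻¹ = k → k = 1 := by
    intro v hv hv1 k hk hvk
    obtain ⟨n, hn, hnv⟩ := h.exists_normalizer hv hv1
    set K' := K.map (MulAut.conj n⁻¹).toMonoidHom with hK'
    have hodd : Odd (Nat.card K') := by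
      rw [hK', ← Nat.card_congr (K.equivMapOfInjective _ (MulAut.conj n⁻¹).injective).toEquiv]
      exact hK
    have hP' : (P : Subgroup G) ≤ normalizer (K' : Set G) := by
      intro p hp
      have hp' : n * p * n⁻¹ ∈ normalizer (K : Set G) := hP ((mem_normalizer_iff.mp hn p).mp hp)
      rw [mem_normalizer_iff]
      intro y
      have hy : ∀ z, z ∈ K' ↔ n * z * n⁻¹ ∈ K := fun z => by
        rw [hK', mem_map]
        refine ⟨?_, fun hz => ⟨_, hz, by simp [mul_assoc]⟩⟩
        rintro ⟨w, hw, rfl⟩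
        simpa [mul_assoc] using hw
      rw [hy, hy, mem_normalizer_iff.mp hp' (n * y * n⁻¹)]
      constructor <;> intro hh <;> convert hh using 1 <;> group
    have h1 : n⁻¹ * k * n = 1 := h.odd_inf_eq_bot hodd hP' ⟨k, hk, by simp⟩ (by
      have h2 : k * v = v * k := by
        calc k * v = v * k * v⁻¹ * v := by rw [hvk]
          _ = v * k := by group
      rw [← hnv] at h2
      calc n⁻¹ * k * n * J = n⁻¹ * (k * (n * J * n⁻¹)) * n := by group
        _ = n⁻¹ * (n * J * n⁻¹ * k) * n := by rw [h2]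
        _ = J * (n⁻¹ * k * n) := by group)
    calc k = n * (n⁻¹ * k * n) * n⁻¹ := by group
      _ = 1 := by rw [h1]; group
  have hinv : ∀ v ∈ P, v ≠ 1 → ∀ k ∈ K, v * k * v⁻¹ = k⁻¹ := by
    intro v hv hv1 k hk
    let φ : K →* K :=
      { toFun := fun x => ⟨v * x * v⁻¹, (mem_normalizer_iff.mp (hP hv) x).mp x.2⟩
        map_one' := Subtype.ext (by simp)
        map_mul' := fun x y => Subtype.ext (by simp [mul_assoc]) }
    have hfp : MonoidHom.FixedPointFree φ := fun x hx =>
      Subtype.ext (hfix v hv hv1 x x.2 (congrArg Subtype.val hx))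
    have hv' : v⁻¹ = v := inv_eq_of_mul_eq_one_right (h.sq hv)
    have h2 : Function.Involutive φ := fun x => Subtype.ext (by
      change v * (v * (x : G) * v⁻¹) * v⁻¹ = x
      rw [hv', show v * (v * (x : G) * v) * v = (v * v) * x * (v * v) by group, h.sq hv]
      simp)
    exact congrArg Subtype.val (congrFun (hfp.coe_eq_inv_of_involutive h2) ⟨k, hk⟩)
  rw [eq_bot_iff]
  intro k hk
  have haT : (a : G) ∈ P := h.aP
  have ha1 : (a : G) ≠ 1 := (orderOf_eq_two.mp h.a_order).2
  have hJ1 : J ≠ 1 := (orderOf_eq_two.mp h.oJ).2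
  have hJa : J * (a : G) ≠ 1 := fun hh => h.J_notMem (by
    rw [mul_eq_one_iff_eq_inv] at hh; rw [hh]; exact inv_mem a.2)
  have e1 := hinv _ (mul_mem h.JP haT : J * (a : G) ∈ (P : Subgroup G)) hJa k hk
  have e2 : J * (a : G) * k * (J * a)⁻¹ = k := by
    rw [show J * (a : G) * k * (J * a)⁻¹ = J * ((a : G) * k * (a : G)⁻¹) * J⁻¹ by group,
      hinv _ haT ha1 k hk, hinv _ h.JP hJ1 _ (inv_mem hk), inv_inv]
  have hkk : k * k = 1 := by
    nth_rewrite 1 [e2.symm.trans e1]
    group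
  obtain ⟨r, hr⟩ := hK
  have hord : k ^ (2 * r + 1) = 1 := by
    have := pow_card_eq_one' (x := (⟨k, hk⟩ : K))
    rw [hr] at this
    exact congrArg Subtype.val this
  rw [pow_succ, pow_mul, pow_two, hkk, one_pow, one_mul] at hord
  exact mem_bot.mpr hord

/-- A non-trivial subgroup normalised by the Sylow 2-subgroup contains an involution. -/
theorem exists_involution_mem {K : Subgroup G} (hK : K ≠ ⊥)
    (hP : (P : Subgroup G) ≤ normalizer (K : Set G)) : ∃ v ∈ K, orderOf v = 2 :=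
  exists_involution fun ho => hK (h.odd_eq_bot ho hP)

theorem J_mem_normal {K : Subgroup G} [K.Normal] (hK : K ≠ ⊥) : J ∈ K := by
  obtain ⟨v, hv, hv2⟩ := h.exists_involution_mem hK le_normalizer_of_normal
  obtain ⟨g, hg⟩ := h.exists_conj_eq hv2
  have := Subgroup.Normal.conj_mem ‹K.Normal› v hv g⁻¹
  rwa [← hg, show g⁻¹ * (g * J * g⁻¹) * g⁻¹⁻¹ = J by group] at this

theorem involution_mem {K : Subgroup G} [K.Normal] (hJK : J ∈ K) {v : G} (hv : orderOf v = 2) :
    v ∈ K := by
  obtain ⟨g, hg⟩ := h.exists_conj_eq hv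
  exact hg ▸ Subgroup.Normal.conj_mem ‹K.Normal› J hJK g

theorem P_le_normal {K : Subgroup G} [K.Normal] (hJK : J ∈ K) : (P : Subgroup G) ≤ K := by
  intro p hp
  by_cases h1 : p = 1
  · exact h1 ▸ one_mem K
  · exact h.involution_mem hJK (h.order_P hp h1)

theorem card_involutions_P :
    Nat.card {p : G // p ∈ P ∧ p ≠ 1} = 7 := by
  have h1 : {p : G | p ∈ P ∧ p ≠ 1} = ((P : Subgroup G) : Set G) \ {1} := by ext; simp
  rw [← Set.coe_setOf, Nat.card_coe_set_eq, h1, Set.ncard_diff_singleton_of_mem (one_mem _),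
    ← Nat.card_coe_set_eq, SetLike.coe_sort_coe, h.cardP]

theorem card_normalizer : Nat.card (normalizer ((P : Subgroup G) : Set G)) =
    7 * Nat.card (normalizer ((P : Subgroup G) : Set G) ⊓ centralizer ({J} : Set G) : Subgroup G) := by
  set N := normalizer ((P : Subgroup G) : Set G)
  set S := (centralizer ({J} : Set G)).subgroupOf N with hS
  have hmem : ∀ n : N, (n : G) * J * (n : G)⁻¹ ∈ P ∧ (n : G) * J * (n : G)⁻¹ ≠ 1 := fun n =>
    ⟨(mem_normalizer_iff.mp n.2 J).mp h.JP,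
      (orderOf_eq_two.mp (by rw [orderOf_conj, h.oJ])).2⟩
  have hequiv : Nat.card (N ⧸ S) = 7 := by
    rw [← h.card_involutions_P]
    refine Nat.card_eq_of_bijective (Quotient.lift (fun n => ⟨_, hmem n⟩) ?_) ⟨?_, ?_⟩
    · intro x y hxy
      have hh := QuotientGroup.leftRel_apply.mp hxy
      rw [hS, mem_subgroupOf, mem_centralizer_singleton_iff] at hh
      simp only [coe_mul, coe_inv] at hh
      refine Subtype.ext ?_
      calc (x : G) * J * (x : G)⁻¹
          = (x : G) * (J * ((x : G)⁻¹ * y)) * (y : G)⁻¹ := by group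
        _ = (x : G) * ((x : G)⁻¹ * y * J) * (y : G)⁻¹ := by rw [hh]
        _ = (y : G) * J * (y : G)⁻¹ := by group
    · intro x y hxy
      induction x using QuotientGroup.induction_on with
      | H x =>
      induction y using QuotientGroup.induction_on with
      | H y =>
        have hh : (x : G) * J * (x : G)⁻¹ = (y : G) * J * (y : G)⁻¹ := congrArg Subtype.val hxy
        rw [QuotientGroup.eq, hS, mem_subgroupOf, mem_centralizer_singleton_iff]
        simp only [coe_mul, coe_inv]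
        calc (x : G)⁻¹ * y * J = (x : G)⁻¹ * ((y : G) * J * (y : G)⁻¹) * y := by group
          _ = J * ((x : G)⁻¹ * y) := by rw [← hh]; group
    · rintro ⟨v, hv, hv1⟩
      obtain ⟨n, hn, rfl⟩ := h.exists_normalizer hv hv1
      exact ⟨QuotientGroup.mk ⟨n, hn⟩, rfl⟩
  rw [card_eq_card_quotient_mul_card_subgroup S, hequiv, hS, ← inf_subgroupOf_right,
    Nat.card_congr (subgroupOfEquivOfLe inf_le_right).toEquiv, inf_comm]

theorem card_centralizer : Nat.card (centralizer ({J} : Set G)) = 2 * Nat.card T := by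
  have h1 := h.relIndex_eq_two le_rfl h.J_mem
  rw [inf_eq_right.mpr h.T_le, relIndex] at h1
  rw [← card_mul_index (T.subgroupOf (centralizer ({J} : Set G))), h1,
    Nat.card_congr (subgroupOfEquivOfLe h.T_le).toEquiv, mul_comm]

/-- The normal subgroup generated by the involutions. -/
theorem P_not_normal (hns : ¬ Group.IsSolvable G) : ¬ ((P : Subgroup G)).Normal := by
  intro hn
  apply hns
  have h1 := h.card_normalizer
  rw [normalizer_eq_top_iff.mpr hn, top_inf_eq, card_top, h.card_centralizer] at h1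
  have h2 : Nat.card (G ⧸ (P : Subgroup G)) = 21 ∨ Nat.card (G ⧸ (P : Subgroup G)) = 105 := by
    have h3 := card_eq_card_quotient_mul_card_subgroup (P : Subgroup G)
    rw [h1, h.cardP] at h3
    rcases h.cardT with hT | hT <;> rw [hT] at h3 <;> omega
  haveI : IsZGroup (G ⧸ (P : Subgroup G)) := IsZGroup.of_squarefree (by
    rcases h2 with h2 | h2 <;> rw [h2] <;>
      exact Nat.squarefree_iff_prime_squarefree.mpr fun p hp hd => by
        have hle := Nat.le_of_dvd (by norm_num) hd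
        have : p ≤ 10 := by nlinarith
        interval_cases p <;> revert hd hp <;> decide)
  haveI : Group.IsSolvable (P : Subgroup G) :=
    Group.isSolvable_of_comm fun p q => Subtype.ext (h.comm_P p.2 q.2)
  exact (Group.isSolvable_iff_subgroup_quotient (P : Subgroup G)).mpr ⟨inferInstance, inferInstance⟩

/-- The normal closure of `J`. -/
theorem noIdx_normalClosure (hns : ¬ Group.IsSolvable G) :
    ∀ N : Subgroup (normalClosure ({J} : Set G)), N.index ≠ 2 := by
  set M := normalClosure ({J} : Set G) with hM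
  intro N hN
  have hJM : J ∈ M := subset_normalClosure rfl
  set R := N.map M.subtype with hR
  have hcore : R.normalCore = ⊥ := by
    by_contra hne
    have hJ := h.J_mem_normal hne
    have hle : M ≤ R := (normalClosure_le_normal (Set.singleton_subset_iff.mpr hJ)).trans
      (normalCore_le R)
    have : N = ⊤ := by
      rw [eq_top_iff]
      intro x _
      obtain ⟨y, hy, hyx⟩ := hle x.2
      exact (Subtype.ext hyx : y = x) ▸ hy
    rw [this, index_top] at hN; omega
  have hsq : ∀ m ∈ M, m * m = 1 := by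
    intro m hm
    rw [← mem_bot, ← hcore]
    intro g
    have hgm : g * m * g⁻¹ ∈ M := (normalClosure_normal).conj_mem m hm g
    refine ⟨⟨_, hgm⟩ * ⟨_, hgm⟩, mul_self_mem_of_index_two hN _, ?_⟩
    simp [mul_assoc]
  have h2 : IsPGroup 2 M := fun m => ⟨1, Subtype.ext (by simp [pow_two, hsq m m.2])⟩
  haveI := (normalClosure_normal : M.Normal)
  have hPM : M = (P : Subgroup G) := P.is_maximal' h2 (h.P_le_normal hJM)
  exact h.P_not_normal hns (hPM ▸ normalClosure_normal)

theorem exists_normalClosure_normalizer (hns : ¬ Group.IsSolvable G) {v : G} (hv : v ∈ P)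
    (hv1 : v ≠ 1) : ∃ n ∈ normalClosure ({J} : Set G) ⊓ normalizer ((P : Subgroup G) : Set G),
      n * J * n⁻¹ = v := by
  set M := normalClosure ({J} : Set G) with hM
  set N := normalizer ((P : Subgroup G) : Set G) with hN
  have hPM : (P : Subgroup G) ≤ M := h.P_le_normal (subset_normalClosure rfl)
  set S := N ⊓ centralizer ({J} : Set G) with hS
  have hmove : ∃ n ∈ M ⊓ N, n * J * n⁻¹ ≠ J := by
    by_contra hno
    push Not at hno
    have hcent : ∀ n ∈ M ⊓ N, ∀ p ∈ P, n * p * n⁻¹ = p := by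
      intro n hn p hp
      by_cases hp1 : p = 1
      · simp [hp1]
      obtain ⟨g, hg, rfl⟩ := h.exists_normalizer hp hp1
      have h1 : g⁻¹ * n * g ∈ M ⊓ N :=
        ⟨by simpa using (normalClosure_normal : M.Normal).conj_mem n hn.1 g⁻¹,
          N.mul_mem (N.mul_mem (N.inv_mem hg) hn.2) hg⟩
      calc n * (g * J * g⁻¹) * n⁻¹ = g * ((g⁻¹ * n * g) * J * (g⁻¹ * n * g)⁻¹) * g⁻¹ := by group
        _ = g * J * g⁻¹ := by rw [hno _ h1]
    set PM := P.subtype hPM with hPMdef
    haveI : IsMulCommutative (PM : Subgroup M) :=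
      ⟨⟨fun p q => Subtype.ext (Subtype.ext (h.comm_P p.2 q.2))⟩⟩
    set JM : M := ⟨J, subset_normalClosure rfl⟩
    have hQi : (((P : Subgroup G) ⊓ T).subgroupOf M).relIndex (PM : Subgroup M) = 2 := by
      change (((P : Subgroup G) ⊓ T).subgroupOf M).relIndex ((P : Subgroup G).subgroupOf M) = 2
      rw [relIndex_subgroupOf hPM]
      exact h.relIndex_eq_two h.PC h.JP
    rcases Cfsg.Agent.S0111.result PM (((P : Subgroup G) ⊓ T).subgroupOf M)
        (fun x hx => hx.1) hQi JM (by rw [← orderOf_subtype]; exact h.oJ) h.JP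
        (fun hh => h.J_notMem hh.2) with ⟨L, -, hi, -⟩ | ⟨g, hg⟩
    · exact h.noIdx_normalClosure hns L hi
    · obtain ⟨n, hn, hn'⟩ := PM.conj_eq_normalizer_conj_of_mem JM g⁻¹ h.JP
        (by rw [inv_inv]; exact hg.1)
      have hnN : ((n⁻¹ : M) : G) ∈ M ⊓ N := by
        refine ⟨(n⁻¹).2, mem_normalizer_iff.mpr fun p => ⟨fun hp => ?_, fun hp => ?_⟩⟩
        · exact (mem_normalizer_iff.mp (inv_mem hn) ⟨p, hPM hp⟩).mp hp
        · have hpM : p ∈ M := by
            have := mul_mem (mul_mem n.2 (hPM hp)) (inv_mem n.2)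
            simpa [mul_assoc] using this
          exact (mem_normalizer_iff.mp (inv_mem hn) ⟨p, hpM⟩).mpr hp
      have e1 : ((g * JM * g⁻¹ : M) : G) = J := by
        rw [show g * JM * g⁻¹ = n⁻¹ * JM * n⁻¹⁻¹ by simpa using hn']
        exact hcent _ hnN J h.JP
      exact h.J_notMem (e1 ▸ hg.2)
  obtain ⟨g, hg, hgv⟩ := h.exists_normalizer hv hv1
  have hnorm : S ≤ normalizer ((M ⊓ N : Subgroup G) : Set G) := by
    intro s hs
    rw [mem_normalizer_iff]
    intro y
    constructor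
    · rintro ⟨y1, y2⟩
      exact ⟨(normalClosure_normal : M.Normal).conj_mem y y1 s,
        N.mul_mem (N.mul_mem hs.1 y2) (N.inv_mem hs.1)⟩
    · rintro ⟨y1, y2⟩
      refine ⟨?_, ?_⟩
      · have := (normalClosure_normal : M.Normal).conj_mem _ y1 s⁻¹
        simpa [mul_assoc] using this
      · have := N.mul_mem (N.mul_mem (N.inv_mem hs.1) y2) hs.1
        simpa [mul_assoc] using this
  have hL : (M ⊓ N) ⊔ S = N := by
    have hle : (M ⊓ N) ⊔ S ≤ N := sup_le inf_le_right inf_le_left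
    have h7 : S.relIndex N = 7 := by
      have h2 := card_mul_index (S.subgroupOf N)
      rw [Nat.card_congr (subgroupOfEquivOfLe (inf_le_left : S ≤ N)).toEquiv, hN,
        h.card_normalizer, ← hN, mul_comm 7] at h2
      exact Nat.eq_of_mul_eq_mul_left Nat.card_pos h2
    have h3 := relIndex_mul_relIndex S ((M ⊓ N) ⊔ S) N le_sup_right hle
    rw [h7] at h3
    rcases (Nat.dvd_prime (by norm_num)).mp (Dvd.intro_left _ h3) with h4 | h4
    · exact le_antisymm hle (relIndex_eq_one.mp h4)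
    · rw [h4] at h3
      have h5 : (M ⊓ N) ⊔ S ≤ S := relIndex_eq_one.mp (by omega)
      obtain ⟨n, hn, hne⟩ := hmove
      have := (h5 (le_sup_left (a := M ⊓ N) hn)).2
      exact absurd (by rw [mem_centralizer_singleton_iff.mp this]; group) hne
  have hg' : g ∈ ((M ⊓ N) ⊔ S : Subgroup G) := hL.symm ▸ hg
  rw [← SetLike.mem_coe, coe_mul_of_right_le_normalizer_left _ _ hnorm] at hg'
  obtain ⟨n, hn, s, hs, rfl⟩ := hg'
  refine ⟨n, hn, ?_⟩
  have hsJ : s * J = J * s := mem_centralizer_singleton_iff.mp hs.2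
  rw [← hgv, show n * s * J * (n * s)⁻¹ = n * (s * J) * s⁻¹ * n⁻¹ by group, hsJ]
  group

/-- All involutions are conjugate under the normal closure of `J`. -/
theorem exists_normalClosure_conj (hns : ¬ Group.IsSolvable G) {v : G} (hv : orderOf v = 2) :
    ∃ m ∈ normalClosure ({J} : Set G), m * J * m⁻¹ = v := by
  set M := normalClosure ({J} : Set G)
  haveI : M.Normal := normalClosure_normal
  have hJM : J ∈ M := subset_normalClosure (Set.mem_singleton J)
  have hPM : (P : Subgroup G) ≤ M := h.P_le_normal hJM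
  have hvM : v ∈ M := h.involution_mem hJM hv
  obtain ⟨g, hg⟩ := exists_conj_mem (P.subtype hPM) (v := (⟨v, hvM⟩ : M))
    (by rw [← orderOf_subtype]; exact hv)
  have hg' : (g : G) * v * (g : G)⁻¹ ∈ P := hg
  obtain ⟨n, hn, hn'⟩ := h.exists_normalClosure_normalizer hns hg'
    (orderOf_eq_two.mp (by rw [orderOf_conj, hv])).2
  refine ⟨(g : G)⁻¹ * n, mul_mem (inv_mem g.2) hn.1, ?_⟩
  calc (g : G)⁻¹ * n * J * ((g : G)⁻¹ * n)⁻¹ = (g : G)⁻¹ * (n * J * n⁻¹) * g := by group
    _ = v := by rw [hn']; group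

/-- The Frattini argument. -/
theorem exists_mul_centralizer (hns : ¬ Group.IsSolvable G) (g : G) :
    ∃ m ∈ normalClosure ({J} : Set G), ∃ c ∈ centralizer ({J} : Set G), g = m * c := by
  obtain ⟨m, hm, hmJ⟩ := h.exists_normalClosure_conj hns (v := g * J * g⁻¹)
    (by rw [orderOf_conj, h.oJ])
  refine ⟨m, hm, m⁻¹ * g, mem_centralizer_singleton_iff.mpr ?_, by group⟩
  calc m⁻¹ * g * J = m⁻¹ * (g * J * g⁻¹) * g := by group
    _ = m⁻¹ * (m * J * m⁻¹) * g := by rw [hmJ]
    _ = J * (m⁻¹ * g) := by group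

/-- A non-trivial normal subgroup of the normal closure of `J` is everything. -/
theorem isSimple_normalClosure (hns : ¬ Group.IsSolvable G) :
    IsSimpleGroup (normalClosure ({J} : Set G)) := by
  set M := normalClosure ({J} : Set G) with hM
  have hJM : J ∈ M := subset_normalClosure rfl
  haveI : Nontrivial M :=
    ⟨⟨⟨J, hJM⟩, 1, fun hh => (orderOf_eq_two.mp h.oJ).2 (congrArg Subtype.val hh)⟩⟩
  refine ⟨fun K hK => ?_⟩
  by_contra hne
  push Not at hne
  have hPM : (P : Subgroup G) ≤ M := h.P_le_normal hJM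
  set K' := K.map M.subtype with hK'
  have hnorm : M ≤ normalizer (K' : Set G) := by
    intro m hm
    rw [mem_normalizer_iff]
    intro y
    constructor
    · rintro ⟨k, hk, rfl⟩
      exact ⟨⟨m, hm⟩ * k * ⟨m, hm⟩⁻¹, hK.conj_mem k hk _, rfl⟩
    · rintro ⟨k, hk, hky⟩
      refine ⟨⟨m, hm⟩⁻¹ * k * ⟨m, hm⟩, by simpa using hK.conj_mem k hk ⟨m, hm⟩⁻¹, ?_⟩
      simp only [coe_subtype, coe_mul, coe_inv] at hky ⊢
      rw [hky]; group
  have hne' : K' ≠ ⊥ := fun hh => hne.1 (by
    rwa [hK', map_eq_bot_iff_of_injective _ M.subtype_injective] at hh)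
  obtain ⟨v, hv, hv2⟩ := h.exists_involution_mem hne' (hPM.trans hnorm)
  obtain ⟨m, hm, hmv⟩ := h.exists_normalClosure_conj hns hv2
  have hJK : J ∈ K' := by
    have := (mem_normalizer_iff.mp (inv_mem (hnorm hm)) v).mp hv
    rwa [← hmv, show m⁻¹ * (m * J * m⁻¹) * m⁻¹⁻¹ = J by group] at this
  apply hne.2
  rw [eq_top_iff]
  intro x _
  have hle : M ≤ K' := by
    refine (closure_le _).mpr fun y hy => ?_
    obtain ⟨z, hz, hzy⟩ := Group.mem_conjugatesOfSet_iff.mp hy
    rw [Set.mem_singleton_iff.mp hz] at hzy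
    obtain ⟨g, hg⟩ := isConj_iff.mp hzy
    obtain ⟨m', hm', hmy⟩ := h.exists_normalClosure_conj hns (v := y)
      (by rw [← hg, orderOf_conj, h.oJ])
    exact hmy ▸ (mem_normalizer_iff.mp (hnorm hm') J).mp hJK
  obtain ⟨k, hk, hkx⟩ := hle x.2
  exact (Subtype.ext hkx : k = x) ▸ hk

end Small

end Cfsg.Agent.TwoTimesAlt
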