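import Cfsg.Agent.S1644
import Cfsg.Agent.Lib.Invol.TwoTimesAlt.Small

/-!
# Centraliser `2 × A_5`: the first Janko group
-/

set_option autoImplicit false

namespace Cfsg.Agent.TwoTimesAlt

open Subgroup

variable {G : Type*} [Group G] [Finite G] {J : G} {T : Subgroup G}

theorem Small.top_of_five {P : Sylow 2 G} {a b : T} (h : Small J T P a b)
    (hns : ¬ Group.IsSolvable G) (hinv : ∀ t : T, ∃ c : T, c * c = 1 ∧ (c * t) * (c * t) = 1) :
    normalClosure ({J} : Set G) = ⊤ := by
  set M := normalClosure ({J} : Set G) with hM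
  haveI : M.Normal := normalClosure_normal
  have hJM : J ∈ M := subset_normalClosure (Set.mem_singleton J)
  have hinvol : ∀ u : T, u * u = 1 → (u : G) ∈ M := by
    intro u hu
    by_cases h1 : u = 1
    · subst h1; exact one_mem M
    · exact h.involution_mem hJM (by rw [orderOf_subtype, orderOf_eq_two]; exact ⟨hu, h1⟩)
  have hT : T ≤ M := by
    intro t ht
    obtain ⟨c, hc, hct⟩ := hinv ⟨t, ht⟩
    have := mul_mem (inv_mem (hinvol c hc)) (hinvol _ hct)
    simpa [← mul_assoc] using this
  have hC : centralizer ({J} : Set G) ≤ M := by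
    intro c hc
    rcases h.split hc with ht | ht
    · exact hT ht
    · simpa using mul_mem (inv_mem hJM) (hT ht)
  rw [eq_top_iff]
  intro g _
  obtain ⟨m, hm, c, hc, rfl⟩ := h.exists_mul_centralizer hns g
  exact mul_mem hm (hC hc)

omit [Finite G] in
/-- The centraliser as an abstract product. -/
theorem Setup.centralizer_equiv (h : Setup J T) :
    Nonempty (centralizer ({J} : Set G) ≃* Multiplicative (ZMod 2) × T) := by
  haveI : Fact (Nat.Prime 2) := ⟨Nat.prime_two⟩
  have hz : Nat.card (zpowers J) = 2 := by rw [Nat.card_zpowers, h.oJ]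
  let e1 : Multiplicative (ZMod 2) ≃* zpowers J :=
    mulEquivOfPrimeCardEq (p := 2) (by rw [Nat.card_congr Multiplicative.toAdd, Nat.card_zmod]) hz
  let φ : zpowers J × T →* centralizer ({J} : Set G) :=
    { toFun := fun p => ⟨(p.1 : G) * p.2, mul_mem (h.prod.1 p.1.2) (h.T_le p.2.2)⟩
      map_one' := Subtype.ext (by simp)
      map_mul' := fun p q => Subtype.ext (by
        have hc := h.prod.2.2.1 _ q.1.2 _ p.2.2
        simp only [Prod.fst_mul, Prod.snd_mul, coe_mul]
        rw [mul_assoc, ← mul_assoc (q.1 : G), hc, mul_assoc, mul_assoc]) }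
  have hinj : Function.Injective φ := by
    rw [injective_iff_map_eq_one]
    intro p hp
    have hp' : (p.1 : G) * p.2 = 1 := congrArg Subtype.val hp
    have h1 : (p.1 : G) ∈ zpowers J ⊓ T := ⟨p.1.2, by
      rw [eq_inv_of_mul_eq_one_left hp']; exact T.inv_mem p.2.2⟩
    rw [h.prod.2.2.2.1, mem_bot] at h1
    rw [h1, one_mul] at hp'
    exact Prod.ext (Subtype.ext h1) (Subtype.ext hp')
  have hsur : Function.Surjective φ := by
    rintro ⟨c, hc⟩
    rcases h.split hc with ht | ht
    · exact ⟨(1, ⟨c, ht⟩), Subtype.ext (by simp [φ])⟩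
    · refine ⟨(⟨J, mem_zpowers J⟩, ⟨J * c, ht⟩), Subtype.ext ?_⟩
      change J * (J * c) = c
      rw [← mul_assoc, h.sqJ, one_mul]
  exact ⟨(MulEquiv.ofBijective φ ⟨hinj, hsur⟩).symm.trans (e1.symm.prodCongr (MulEquiv.refl T))⟩

theorem iso_j1_of_five (h : Setup J T) (hns : ¬ Group.IsSolvable G)
    (e : T ≃* alternatingGroup (Fin 5)) : Cfsg.Spor.IsoJ1 G := by
  obtain ⟨P, a, b, hs, -⟩ := exists_small h e
    (Or.inr (by rw [nat_card_alternatingGroup, Nat.card_fin]; decide)) vfacts_five
  have htop := hs.top_of_five hns fun t => by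
    obtain ⟨c, hc, hct⟩ := two_involutions_five (e t)
    exact ⟨e.symm c, by rw [← map_mul, hc, map_one],
      e.injective (by simp only [map_mul, e.apply_symm_apply, map_one]; exact hct)⟩
  haveI hsimple := hs.isSimple_normalClosure hns
  rw [htop] at hsimple
  haveI := hsimple
  haveI : IsSimpleGroup G := (topEquiv (G := G)).symm.isSimpleGroup
  obtain ⟨f⟩ := h.centralizer_equiv
  exact Cfsg.Agent.S1644.result P hs.commutativeP hs.cardP J h.oJ
    (f.trans ((MulEquiv.refl _).prodCongr e))

end Cfsg.Agent.TwoTimesAlt
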