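import Cfsg.Agent.Lib.Invol.TwoTimesAlt.Small

/-!
# Centraliser `2 × A_4`: the normaliser of the Sylow 2-subgroup is strongly embedded
-/

set_option autoImplicit false

namespace Cfsg.Agent.TwoTimesAlt

open Subgroup

variable {G : Type*} [Group G] [Finite G]

/-- Centraliser `2 × A_4`. -/
structure Four (J : G) (T : Subgroup G) (P : Sylow 2 G) (a b : T) : Prop extends Small J T P a b where
  cardT4 : Nat.card T = 12
  conjV : ∀ t : T, InV a b (t * a * t⁻¹) ∧ InV a b (t * b * t⁻¹)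
  notSolvable : ¬ Group.IsSolvable G

theorem card_eq_one_or_prime {H : Subgroup G} {p : ℕ} (hp : p.Prime) (hd : Nat.card H ∣ p) :
    H = ⊥ ∨ Nat.card H = p :=
  ((Nat.dvd_prime hp).mp hd).imp_left Subgroup.card_eq_one.mp

/-- Two subgroups of prime order `p` in a group of order less than `p ^ 2` coincide. -/
theorem eq_of_card_prime {p : ℕ} (hp : p.Prime) {A B D : Subgroup G} (hA : Nat.card A = p)
    (hB : Nat.card B = p) (hAD : A ≤ D) (hBD : B ≤ D) (hD : Nat.card D < p * p) : A = B := by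
  rcases card_eq_one_or_prime hp (H := A ⊓ B) (hA ▸ card_dvd_of_le inf_le_left) with h1 | h1
  · exfalso
    have hinj : Function.Injective (fun x : A × B =>
        (⟨(x.1 : G) * x.2, mul_mem (hAD x.1.2) (hBD x.2.2)⟩ : D)) := by
      rintro ⟨x, y⟩ ⟨x', y'⟩ hxy
      have h2 : (x : G) * y = x' * y' := congrArg Subtype.val hxy
      have h3 : (x' : G)⁻¹ * x = y' * (y : G)⁻¹ := by
        calc (x' : G)⁻¹ * x = (x' : G)⁻¹ * (x * y) * (y : G)⁻¹ := by group
          _ = y' * (y : G)⁻¹ := by rw [h2]; group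
      have h4 : (x' : G)⁻¹ * x ∈ A ⊓ B :=
        ⟨A.mul_mem (A.inv_mem x'.2) x.2, by rw [h3]; exact B.mul_mem y'.2 (B.inv_mem y.2)⟩
      rw [h1, mem_bot] at h4
      rw [h4] at h3
      exact Prod.ext (Subtype.ext (inv_mul_eq_one.mp h4).symm)
        (Subtype.ext (mul_inv_eq_one.mp h3.symm).symm)
    have := Nat.card_le_card_of_injective _ hinj
    rw [Nat.card_prod, hA, hB] at this
    omega
  · exact (eq_of_le_of_card_ge inf_le_left (by rw [h1, hA])).symm.trans
      (eq_of_le_of_card_ge inf_le_right (by rw [h1, hB]))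

omit [Finite G] in
theorem dvd_of_pow_eq_one {x : G} {p : ℕ} (hp : p.Prime) (hx : x ^ p = 1) (h1 : x ≠ 1) {k : ℕ}
    (hk : x ^ k = 1) : p ∣ k := by
  haveI := Fact.mk hp
  exact orderOf_eq_prime hx h1 ▸ orderOf_dvd_of_pow_eq_one hk

namespace Four

variable {J : G} {T : Subgroup G} {P : Sylow 2 G} {a b : T} (h : Four J T P a b)
include h

local notation "N" => Subgroup.normalizer ((P : Subgroup G) : Set G)

theorem C_le_N : centralizer ({J} : Set G) ≤ N := by
  have hT : ∀ t : T, ∀ v : G, InV (a : G) b v → InV (a : G) b ((t : G) * v * (t : G)⁻¹) := by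
    intro t v hv
    obtain ⟨v, rfl⟩ : ∃ w : T, (w : G) = v := ⟨⟨v, h.inV_T hv⟩, rfl⟩
    rw [inV_coe] at hv
    rw [← coe_inv, ← coe_mul, ← coe_mul, inV_coe]
    have sqa := h.facts.ha
    have sqb := h.facts.hb
    rcases hv with rfl | rfl | rfl | rfl
    · exact Or.inl (by group)
    · exact (h.conjV t).1
    · exact (h.conjV t).2
    · have e : ∀ x y : T, InV a b x → InV a b y → InV a b (x * y) := by
        rintro x y (rfl | rfl | rfl | rfl) (rfl | rfl | rfl | rfl)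
        · exact Or.inl (one_mul 1)
        · exact Or.inr (Or.inl (one_mul _))
        · exact Or.inr (Or.inr (Or.inl (one_mul _)))
        · exact Or.inr (Or.inr (Or.inr (one_mul _)))
        · exact Or.inr (Or.inl (mul_one _))
        · exact Or.inl sqa
        · exact Or.inr (Or.inr (Or.inr rfl))
        · exact Or.inr (Or.inr (Or.inl (by rw [← mul_assoc, sqa, one_mul])))
        · exact Or.inr (Or.inr (Or.inl (mul_one _)))
        · exact Or.inr (Or.inr (Or.inr h.facts.hcomm.symm))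
        · exact Or.inl sqb
        · exact Or.inr (Or.inl (by rw [h.facts.hcomm, ← mul_assoc, sqb, one_mul]))
        · exact Or.inr (Or.inr (Or.inr (mul_one _)))
        · exact Or.inr (Or.inr (Or.inl (by rw [h.facts.hcomm, mul_assoc, sqa, mul_one])))
        · exact Or.inr (Or.inl (by rw [mul_assoc, sqb, mul_one]))
        · refine Or.inl ?_
          nth_rewrite 2 [h.facts.hcomm]
          rw [← mul_assoc, mul_assoc a b b, sqb, mul_one, sqa]
      rw [show t * (a * b) * t⁻¹ = (t * a * t⁻¹) * (t * b * t⁻¹) by group]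
      exact e _ _ (h.conjV t).1 (h.conjV t).2
  have key : ∀ c ∈ centralizer ({J} : Set G), ∀ p ∈ P, c * p * c⁻¹ ∈ P := by
    intro c hc p hp
    have hcJ : c * J = J * c := mem_centralizer_singleton_iff.mp hc
    have hred : ∀ v, InV (a : G) b v → c * v * c⁻¹ ∈ P := by
      intro v hv
      rcases h.split hc with ht | ht
      · exact h.inV_P (hT ⟨c, ht⟩ v hv)
      · have h1 := h.inV_P (hT ⟨J * c, ht⟩ v hv)
        have h2 : J * c * v * (J * c)⁻¹ = J * (c * v * c⁻¹) * J⁻¹ := by group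
        rw [Subtype.coe_mk, h2] at h1
        have h3 := mul_mem (mul_mem (inv_mem h.JP) h1) h.JP
        rwa [show J⁻¹ * (J * (c * v * c⁻¹) * J⁻¹) * J = c * v * c⁻¹ by group] at h3
    rcases h.memP p hp with hh | hh
    · exact hred p hh
    · have h1 := mul_mem h.JP (hred _ hh)
      rwa [show c * (J * p) * c⁻¹ = (c * J) * p * c⁻¹ by group, hcJ,
        show J * (J * c * p * c⁻¹) = (J * J) * (c * p * c⁻¹) by group, h.sqJ, one_mul] at h1
  intro c hc
  rw [mem_normalizer_iff]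
  refine fun p => ⟨key c hc p, fun hh => ?_⟩
  have h1 := key c⁻¹ (inv_mem hc) _ hh
  rwa [show c⁻¹ * (c * p * c⁻¹) * c⁻¹⁻¹ = p by group] at h1

theorem card_N : Nat.card N = 168 := by
  rw [h.card_normalizer, inf_eq_right.mpr h.C_le_N, h.card_centralizer, h.cardT4]

theorem card_C : Nat.card (centralizer ({J} : Set G)) = 24 := by
  rw [h.card_centralizer, h.cardT4]

theorem P_le_N : (P : Subgroup G) ≤ N := le_normalizer

theorem mem_P {u : G} (hu : u ∈ N) (hu2 : u * u = 1) : u ∈ P := by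
  have h2 : IsPGroup 2 (zpowers u) := by
    rintro ⟨x, k, rfl⟩
    refine ⟨1, Subtype.ext ?_⟩
    simp only [pow_one, SubgroupClass.coe_pow, OneMemClass.coe_one]
    rw [← zpow_natCast, ← zpow_mul, mul_comm, zpow_mul, zpow_natCast, pow_two, hu2, one_zpow]
  have h3 := h2.to_sup_of_normal_right' P.isPGroup' (zpowers_le.mpr hu)
  have h4 := P.is_maximal' h3 le_sup_right
  change u ∈ (P : Subgroup G)
  rw [← h4]
  exact le_sup_left (a := zpowers u) (mem_zpowers u)

theorem centralizer_le_N {v : G} (hvP : v ∈ P) (hv : v ≠ 1) {g : G} (hg : g * v = v * g) :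
    g ∈ N := by
  obtain ⟨n, hn, rfl⟩ := h.exists_normalizer hvP hv
  have h1 : n⁻¹ * g * n ∈ centralizer ({J} : Set G) := mem_centralizer_singleton_iff.mpr (by
    calc n⁻¹ * g * n * J = n⁻¹ * (g * (n * J * n⁻¹)) * n := by group
      _ = n⁻¹ * (n * J * n⁻¹ * g) * n := by rw [hg]
      _ = J * (n⁻¹ * g * n) := by group)
  have h2 := (N).mul_mem ((N).mul_mem hn (h.C_le_N h1)) ((N).inv_mem hn)
  rwa [show n * (n⁻¹ * g * n) * n⁻¹ = g by group] at h2

/-- `N` is strongly embedded. -/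
theorem strongly {g v : G} (hv : orderOf v = 2) (hvN : v ∈ N) (hgv : g⁻¹ * v * g ∈ N) : g ∈ N := by
  have h1 := orderOf_eq_two.mp hv
  have h2 : v ∈ P := h.mem_P hvN h1.1
  have h3 : g⁻¹ * v * g ∈ P := h.mem_P hgv (by
    rw [show g⁻¹ * v * g * (g⁻¹ * v * g) = g⁻¹ * (v * v) * g by group, h1.1]; group)
  obtain ⟨n, hn, hnJ⟩ := h.exists_normalizer h3 (fun hh => h1.2 (by
    calc v = g * (g⁻¹ * v * g) * g⁻¹ := by group
      _ = 1 := by rw [hh]; group))
  obtain ⟨k, hk, hkJ⟩ := h.exists_normalizer h2 h1.2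
  have h4 : (g * n * k⁻¹) * v = v * (g * n * k⁻¹) := by
    calc g * n * k⁻¹ * v = g * n * k⁻¹ * (k * J * k⁻¹) := by rw [hkJ]
      _ = g * (n * J * n⁻¹) * n * k⁻¹ := by group
      _ = v * (g * n * k⁻¹) := by rw [hnJ]; group
  have h5 := (N).mul_mem ((N).mul_mem (h.centralizer_le_N h2 h1.2 h4) hk) ((N).inv_mem hn)
  rwa [show g * n * k⁻¹ * k * n⁻¹ = g by group] at h5

theorem no_seven {v s : G} (hv : orderOf v = 2) (hs : s ^ 7 = 1) (hvs : s * v = v * s) : s = 1 := by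
  obtain ⟨g, rfl⟩ := h.exists_conj_eq hv
  have h1 : g⁻¹ * s * g ∈ centralizer ({J} : Set G) := mem_centralizer_singleton_iff.mpr (by
    calc g⁻¹ * s * g * J = g⁻¹ * (s * (g * J * g⁻¹)) * g := by group
      _ = g⁻¹ * (g * J * g⁻¹ * s) * g := by rw [hvs]
      _ = J * (g⁻¹ * s * g) := by group)
  have h2 : (g⁻¹ * s * g) ^ 24 = 1 := by
    have := pow_card_eq_one' (x := (⟨_, h1⟩ : centralizer ({J} : Set G)))
    rw [h.card_C] at this
    exact congrArg Subtype.val this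
  have h3 : (g⁻¹ * s * g) ^ 7 = 1 := by
    rw [show g⁻¹ * s * g = g⁻¹ * s * g⁻¹⁻¹ by group, conj_pow, hs]; group
  have h4 : g⁻¹ * s * g = 1 := by
    by_contra hh
    have := dvd_of_pow_eq_one (by norm_num) h3 hh h2
    omega
  calc s = g * (g⁻¹ * s * g) * g⁻¹ := by group
    _ = 1 := by rw [h4]; group

theorem eq_inV {t : G} (ht : t ∈ T) (ha : t * (a : G) = a * t) (hb : t * (b : G) = b * t) :
    InV (a : G) b t :=
  inV_coe (x := (⟨t, ht⟩ : T)).mpr (h.facts.cent _ (Subtype.ext ha) (Subtype.ext hb))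

/-- `P` is self-centralising. -/
theorem mem_P_of_comm {x : G} (hx : ∀ p ∈ P, x * p = p * x) : x ∈ P := by
  have hJ := hx J h.JP
  rcases h.split (mem_centralizer_singleton_iff.mpr hJ) with ht | ht
  · exact h.inV_P (h.eq_inV ht (hx _ h.aP) (hx _ h.bP))
  · have key : ∀ p ∈ P, J * p = p * J → J * x * p = p * (J * x) := fun p hp hJp => by
      rw [mul_assoc, hx p hp, ← mul_assoc, hJp, mul_assoc]
    have h1 : J * x ∈ P :=
      h.inV_P (h.eq_inV ht (key _ h.aP (h.comm a.2)) (key _ h.bP (h.comm b.2)))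
    have h2 := mul_mem h.JP h1
    rwa [← mul_assoc, h.sqJ, one_mul] at h2

/-- No element of order 3 in `N` centralises an element of order 7. -/
theorem no21 {r s : G} (hr : r ∈ N) (hs : s ∈ N) (hs7 : s ^ 7 = 1) (hs1 : s ≠ 1) (hr3 : r ^ 3 = 1)
    (hrs : r * s = s * r) : r = 1 := by
  have hfix : ∀ k : ℕ, s ^ k * J = J * s ^ k → 7 ∣ k := by
    intro k hk
    by_contra h7
    have h1 : s ^ k = 1 :=
      h.no_seven h.oJ (by rw [← pow_mul, mul_comm, pow_mul, hs7, one_pow]) hk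
    exact h7 (dvd_of_pow_eq_one (by norm_num) hs7 hs1 h1)
  have hmem : ∀ x ∈ N, x * J * x⁻¹ ∈ P ∧ x * J * x⁻¹ ≠ 1 := fun x hx =>
    ⟨(mem_normalizer_iff.mp hx J).mp h.JP, (orderOf_eq_two.mp (by rw [orderOf_conj, h.oJ])).2⟩
  let f : Fin 7 → {p : G // p ∈ P ∧ p ≠ 1} := fun i =>
    ⟨s ^ (i : ℕ) * J * (s ^ (i : ℕ))⁻¹, hmem _ ((N).pow_mem hs _)⟩
  have hinj : Function.Injective f := by
    intro i j hij
    wlog hle : (i : ℕ) ≤ j generalizing i j
    · exact (this hij.symm (by omega)).symm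
    have h1 : s ^ (i : ℕ) * J * (s ^ (i : ℕ))⁻¹ = s ^ (j : ℕ) * J * (s ^ (j : ℕ))⁻¹ :=
      congrArg Subtype.val hij
    obtain ⟨d, hd⟩ := Nat.le.dest hle
    rw [← hd, pow_add] at h1
    have h2 : s ^ d * J = J * s ^ d := by
      calc s ^ d * J = (s ^ (i : ℕ))⁻¹ * (s ^ (i : ℕ) * s ^ d * J * (s ^ (i : ℕ) * s ^ d)⁻¹) *
            s ^ (i : ℕ) * s ^ d := by group
        _ = J * s ^ d := by rw [← h1]; group
    have := hfix d h2
    exact Fin.ext (by omega)
  have hsurj : Function.Surjective f := by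
    refine (Nat.bijective_iff_injective_and_card f).mpr ⟨hinj, ?_⟩ |>.2
    rw [Nat.card_fin, h.card_involutions_P]
  obtain ⟨i, hi⟩ := hsurj ⟨r * J * r⁻¹, hmem r hr⟩
  have hi' : s ^ (i : ℕ) * J * (s ^ (i : ℕ))⁻¹ = r * J * r⁻¹ := congrArg Subtype.val hi
  have hc : ∀ k : ℕ, r * s ^ k = s ^ k * r := fun k => (Commute.pow_right hrs k).eq
  set t := s ^ (i : ℕ) with ht
  have hkey : ∀ k : ℕ, r ^ k * J * (r ^ k)⁻¹ = t ^ k * J * (t ^ k)⁻¹ := by
    intro k
    induction k with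
    | zero => simp
    | succ k ih =>
      have hrt : r * t ^ k = t ^ k * r := by rw [ht, ← pow_mul]; exact hc _
      rw [pow_succ', show r * r ^ k * J * (r * r ^ k)⁻¹ = r * (r ^ k * J * (r ^ k)⁻¹) * r⁻¹ by group,
        ih, show r * (t ^ k * J * (t ^ k)⁻¹) * r⁻¹ = (r * t ^ k) * J * (r * t ^ k)⁻¹ by group, hrt,
        show t ^ k * r * J * (t ^ k * r)⁻¹ = t ^ k * (r * J * r⁻¹) * (t ^ k)⁻¹ by group, ← hi',
        pow_succ]
      group
  have h3 := hkey 3
  rw [hr3, ht, ← pow_mul] at h3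
  have h7 : 7 ∣ (i : ℕ) := by
    have := hfix ((i : ℕ) * 3) (by
      calc s ^ ((i : ℕ) * 3) * J
          = (s ^ ((i : ℕ) * 3) * J * (s ^ ((i : ℕ) * 3))⁻¹) * s ^ ((i : ℕ) * 3) := by group
        _ = J * s ^ ((i : ℕ) * 3) := by rw [← h3]; group)
    omega
  have hi0 : (i : ℕ) = 0 := by omega
  have hrJ : r * J = J * r := by
    rw [ht, hi0, pow_zero] at hi'
    calc r * J = (r * J * r⁻¹) * r := by group
      _ = J * r := by rw [← hi']; group
  have hrP : r ∈ P := h.mem_P_of_comm fun p hp => by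
    by_cases hp1 : p = 1
    · simp [hp1]
    obtain ⟨j, hj⟩ := hsurj ⟨p, hp, hp1⟩
    have hj' : s ^ (j : ℕ) * J * (s ^ (j : ℕ))⁻¹ = p := congrArg Subtype.val hj
    rw [← hj', ← mul_assoc, ← mul_assoc, hc, mul_assoc (s ^ (j : ℕ)) r J, hrJ,
      show s ^ (j : ℕ) * (J * r) * (s ^ (j : ℕ))⁻¹ =
        s ^ (j : ℕ) * J * (r * (s ^ (j : ℕ))⁻¹) by group,
      (Commute.inv_right (hc (j : ℕ) : Commute r (s ^ (j : ℕ)))).eq]
    group
  have h2 := h.sq hrP
  rw [pow_succ, pow_two, h2, one_mul] at hr3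
  exact hr3

theorem odd_of_no_involution {D : Subgroup G} (hD : ∀ u ∈ D, orderOf u ≠ 2) :
    Odd (Nat.card D) := by
  by_contra ho
  obtain ⟨u, hu, hu2⟩ := exists_involution ho
  exact hD u hu hu2

theorem dvd_21 {D : Subgroup G} (hDN : D ≤ N) (hodd : Odd (Nat.card D)) : Nat.card D ∣ 21 := by
  have h1 : Nat.card D ∣ 2 ^ 3 * 21 := by
    rw [show 2 ^ 3 * 21 = 168 by norm_num, ← h.card_N]
    exact card_dvd_of_le hDN
  refine (Nat.Coprime.pow_right 3 ?_).dvd_of_dvd_mul_left h1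
  exact Nat.coprime_two_right.mpr hodd

end Four

end Cfsg.Agent.TwoTimesAlt
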