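import Cfsg.Agent.Lib.Invol.TwoTimesAlt.Four

/-!
# Centraliser `2 × A_4`: counting the involutions which interchange two points
-/

set_option autoImplicit false

namespace Cfsg.Agent.TwoTimesAlt

open Subgroup MulAction

variable {G : Type*} [Group G] [Finite G]

namespace Four

variable {J : G} {T : Subgroup G} {P : Sylow 2 G} {a b : T} (h : Four J T P a b)
include h

local notation "N" => Subgroup.normalizer ((P : Subgroup G) : Set G)
local notation "Ω" => G ⧸ N
local notation "pt" => (QuotientGroup.mk (1 : G) : G ⧸ N)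

omit [Finite G] h in
theorem smul_pt {g : G} : g • pt = (QuotientGroup.mk g : Ω) := by
  rw [MulAction.Quotient.smul_mk, smul_eq_mul, mul_one]

omit [Finite G] h in
theorem smul_pt_eq_iff {g : G} : g • pt = pt ↔ g ∈ N := by
  rw [smul_pt, QuotientGroup.eq, mul_one]
  exact ⟨fun hh => by simpa using (N).inv_mem hh, fun hh => (N).inv_mem hh⟩

theorem index_centralizer : (centralizer ({J} : Set G)).index = 7 * Nat.card Ω := by
  have h1 := card_mul_index (centralizer ({J} : Set G))
  have h2 := card_mul_index N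
  rw [h.card_C, ← h2, h.card_N, Subgroup.index_eq_card N] at h1
  omega

theorem card_involutions : Nat.card {v : G // orderOf v = 2} = 7 * Nat.card Ω := by
  rw [← h.index_centralizer, Subgroup.index_eq_card]
  refine (Nat.card_eq_of_bijective (Quotient.lift
    (fun g : G => (⟨g * J * g⁻¹, by rw [orderOf_conj, h.oJ]⟩ : {v : G // orderOf v = 2})) ?_)
    ⟨?_, ?_⟩).symm
  · intro x y hxy
    have hh := mem_centralizer_singleton_iff.mp (QuotientGroup.leftRel_apply.mp hxy)
    refine Subtype.ext ?_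
    calc x * J * x⁻¹ = x * (J * (x⁻¹ * y)) * y⁻¹ := by group
      _ = x * (x⁻¹ * y * J) * y⁻¹ := by rw [hh]
      _ = y * J * y⁻¹ := by group
  · intro x y hxy
    induction x using QuotientGroup.induction_on with
    | H x =>
    induction y using QuotientGroup.induction_on with
    | H y =>
      have hh : x * J * x⁻¹ = y * J * y⁻¹ := congrArg Subtype.val hxy
      rw [QuotientGroup.eq, mem_centralizer_singleton_iff]
      calc x⁻¹ * y * J = x⁻¹ * (y * J * y⁻¹) * y := by group
        _ = J * (x⁻¹ * y) := by rw [← hh]; group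
  · rintro ⟨v, hv⟩
    obtain ⟨g, rfl⟩ := h.exists_conj_eq hv
    exact ⟨QuotientGroup.mk g, rfl⟩

theorem card_fix : Nat.card {v : {v : G // orderOf v = 2} // (v : G) • pt = pt} = 7 := by
  rw [← h.card_involutions_P]
  refine Nat.card_congr
    { toFun := fun v => ⟨v.1.1, h.mem_P (smul_pt_eq_iff.mp v.2) (orderOf_eq_two.mp v.1.2).1,
        (orderOf_eq_two.mp v.1.2).2⟩
      invFun := fun p => ⟨⟨p.1, h.order_P p.2.1 p.2.2⟩, smul_pt_eq_iff.mpr (h.P_le_N p.2.1)⟩
      left_inv := fun v => rfl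
      right_inv := fun p => rfl }

/-- The subgroup fixing the base point and `c`. -/
abbrev two (c : Ω) : Subgroup G := N ⊓ stabilizer G c

omit [Finite G] h in
theorem ne_pt_iff {g : G} : g • pt ≠ pt ↔ g ∉ N := not_congr smul_pt_eq_iff

theorem two_odd {c : Ω} (hc : c ≠ pt) : Odd (Nat.card (two (P := P) c)) := by
  refine h.odd_of_no_involution fun u hu hu2 => ?_
  obtain ⟨g, rfl⟩ := QuotientGroup.mk_surjective c
  rw [← smul_pt] at hc
  refine ne_pt_iff.mp hc (h.strongly hu2 hu.1 ?_)
  have h1 : u • (g • pt) = g • pt := by rw [smul_pt]; exact hu.2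
  rw [← smul_pt_eq_iff, mul_smul, mul_smul, h1, inv_smul_smul]

theorem two_dvd_21 {c : Ω} (hc : c ≠ pt) : Nat.card (two (P := P) c) ∣ 21 :=
  h.dvd_21 inf_le_left (h.two_odd hc)

omit [Finite G] h in
theorem swap_back {v : G} (hv : v * v = 1) {c : Ω} (hvc : v • pt = c) : v • c = pt := by
  rw [← hvc, smul_smul, hv, one_smul]

omit [Finite G] h in
theorem swap_normalizes {v : G} (hv : v * v = 1) {c : Ω} (hvc : v • pt = c) {d : G}
    (hd : d ∈ two (P := P) c) : v * d * v⁻¹ ∈ two (P := P) c := by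
  have h1 := swap_back hv hvc
  have hd' : d • c = c := hd.2
  have hd'' : d • pt = pt := smul_pt_eq_iff.mpr hd.1
  rw [inv_eq_of_mul_eq_one_right hv]
  exact ⟨smul_pt_eq_iff.mp (by rw [mul_smul, mul_smul, hvc, hd', h1]),
    mem_stabilizer_iff.mpr (by rw [mul_smul, mul_smul, h1, hd'', hvc])⟩

/-- At most seven involutions interchange the base point and `c`. -/
theorem swap_le {c : Ω} (hc : c ≠ pt) :
    Nat.card {v : {v : G // orderOf v = 2} // (v : G) • pt = c} ≤ 7 := by
  classical
  rcases isEmpty_or_nonempty {v : {v : G // orderOf v = 2} // (v : G) • pt = c} with he | ⟨⟨⟨v, hv2⟩, hvc⟩⟩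
  · rw [Nat.card_of_isEmpty]; omega
  have hv := (orderOf_eq_two.mp hv2).1
  have hvi : v⁻¹ = v := inv_eq_of_mul_eq_one_right hv
  replace hvc : v • pt = c := hvc
  set D := two (P := P) c with hD
  let f : {w : {v : G // orderOf v = 2} // (w : G) • pt = c} → {d : D // v * (d : G) * v = (d : G)⁻¹} :=
    fun w => ⟨⟨v * w.1.1, by
      have hw : (w.1.1) • pt = c := w.2
      have hw1 := (orderOf_eq_two.mp w.1.2).1
      exact ⟨smul_pt_eq_iff.mp (by rw [mul_smul, hw, swap_back hv hvc]),
        mem_stabilizer_iff.mpr (by rw [mul_smul, swap_back hw1 hw, hvc])⟩⟩, by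
      have hw1 := (orderOf_eq_two.mp w.1.2).1
      change v * (v * w.1.1) * v = (v * w.1.1)⁻¹
      rw [mul_inv_rev, hvi, inv_eq_of_mul_eq_one_right hw1, ← mul_assoc v v, hv, one_mul]⟩
  have hf : Function.Injective f := fun x y hxy =>
    Subtype.ext (Subtype.ext (mul_left_cancel (congrArg (fun z => ((z.1 : D) : G)) hxy)))
  refine le_trans (Nat.card_le_card_of_injective f hf) ?_
  by_cases hsmall : Nat.card D ≤ 7
  · exact (Finite.card_subtype_le _).trans hsmall
  have h21 : Nat.card D = 21 := by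
    have hd := h.two_dvd_21 hc
    rw [← hD] at hd
    have : Nat.card D ∈ Nat.divisors 21 := Nat.mem_divisors.mpr ⟨hd, by norm_num⟩
    rw [show Nat.divisors 21 = {1, 3, 7, 21} by decide] at this
    simp only [Finset.mem_insert, Finset.mem_singleton] at this
    omega
  set S := (centralizer ({v} : Set G)).subgroupOf D with hS
  have hSne : S ≠ ⊥ := by
    intro hbot
    let φ : D →* D :=
      { toFun := fun d => ⟨v * d * v⁻¹, swap_normalizes hv hvc d.2⟩
        map_one' := Subtype.ext (by simp)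
        map_mul' := fun x y => Subtype.ext (by simp [mul_assoc]) }
    have hfp : MonoidHom.FixedPointFree φ := by
      intro d hd
      have h1 : v * (d : G) * v⁻¹ = d := congrArg Subtype.val hd
      have : d ∈ S := by
        rw [hS, mem_subgroupOf, mem_centralizer_singleton_iff]
        calc (d : G) * v = v * (d : G) * v⁻¹ * v := by rw [h1]
          _ = v * d := by group
      rwa [hbot, mem_bot] at this
    have hinv : Function.Involutive φ := fun d => Subtype.ext (by
      change v * (v * (d : G) * v⁻¹) * v⁻¹ = d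
      rw [hvi, show v * (v * (d : G) * v) * v = (v * v) * d * (v * v) by group, hv]; simp)
    haveI : Fact (Nat.Prime 3) := ⟨Nat.prime_three⟩
    haveI : Fact (Nat.Prime 7) := ⟨by norm_num⟩
    obtain ⟨r, hr⟩ := exists_prime_orderOf_dvd_card' (G := D) 3 (by rw [h21]; norm_num)
    obtain ⟨s, hs⟩ := exists_prime_orderOf_dvd_card' (G := D) 7 (by rw [h21]; norm_num)
    have h1 : (r : G) = 1 := h.no21 r.2.1 s.2.1
      (by rw [← hs, ← orderOf_subtype, pow_orderOf_eq_one])
      (fun hh => by rw [OneMemClass.coe_eq_one.mp hh, orderOf_one] at hs; omega)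
      (by rw [← hr, ← orderOf_subtype, pow_orderOf_eq_one])
      (congrArg Subtype.val (hfp.commute_all_of_involutive hinv r s).eq)
    rw [OneMemClass.coe_eq_one.mp h1, orderOf_one] at hr
    omega
  have hidx : Nat.card (D ⧸ S) ≤ 7 := by
    have h1 := card_eq_card_quotient_mul_card_subgroup S
    have h2 : 1 < Nat.card S := (one_lt_card_iff_ne_bot S).mpr hSne
    rw [h21] at h1
    have h3 : Nat.card (D ⧸ S) ∈ Nat.divisors 21 :=
      Nat.mem_divisors.mpr ⟨Dvd.intro _ h1.symm, by norm_num⟩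
    rw [show Nat.divisors 21 = {1, 3, 7, 21} by decide] at h3
    simp only [Finset.mem_insert, Finset.mem_singleton] at h3
    rcases h3 with h3 | h3 | h3 | h3 <;> rw [h3] at h1 <;> omega
  refine le_trans ?_ hidx
  let g : D ⧸ S → G := Quotient.lift (fun d : D => (d : G) * v * (d : G)⁻¹ * v) (by
    intro x y hxy
    have hh := QuotientGroup.leftRel_apply.mp hxy
    rw [hS, mem_subgroupOf, mem_centralizer_singleton_iff] at hh
    simp only [coe_mul, coe_inv] at hh
    refine congrArg (· * v) ?_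
    calc (x : G) * v * (x : G)⁻¹ = (x : G) * (v * ((x : G)⁻¹ * y)) * (y : G)⁻¹ := by group
      _ = (x : G) * ((x : G)⁻¹ * y * v) * (y : G)⁻¹ := by rw [hh]
      _ = (y : G) * v * (y : G)⁻¹ := by group)
  have hsub : ∀ d : {d : D // v * (d : G) * v = (d : G)⁻¹}, ∃ q : D ⧸ S, g q = ((d.1 : D) : G) := by
    rintro ⟨⟨d, hdD⟩, hd⟩
    refine ⟨QuotientGroup.mk (⟨d, hdD⟩ ^ 11 : D), ?_⟩
    change (((⟨d, hdD⟩ : D) ^ 11 : D) : G) * v * ((((⟨d, hdD⟩ : D) ^ 11 : D) : G))⁻¹ * v = d
    rw [SubgroupClass.coe_pow]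
    have h1 : v * (d ^ 11)⁻¹ * v = d ^ 11 := by
      have h2 : v * d * v⁻¹ = d⁻¹ := by rw [hvi]; exact hd
      have h3 : v * d⁻¹ * v⁻¹ = d := by
        rw [show v * d⁻¹ * v⁻¹ = (v * d * v⁻¹)⁻¹ by group, h2, inv_inv]
      rw [← inv_pow]
      nth_rewrite 2 [← hvi]
      rw [← conj_pow, h3]
    have h21' : d ^ 21 = 1 := by
      have := pow_card_eq_one' (x := (⟨d, hdD⟩ : D))
      rw [h21] at this
      exact congrArg Subtype.val this
    calc d ^ 11 * v * (d ^ 11)⁻¹ * v = d ^ 11 * (v * (d ^ 11)⁻¹ * v) := by group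
      _ = d ^ 21 * d := by rw [h1, ← pow_add, ← pow_succ]
      _ = d := by rw [h21', one_mul]
  choose q hq using hsub
  exact Nat.card_le_card_of_injective q fun x y hxy =>
    Subtype.ext (Subtype.ext (by rw [← hq x, ← hq y, hxy]))

/-- Exactly seven involutions interchange two points. -/
theorem swap_eq {c : Ω} (hc : c ≠ pt) :
    Nat.card {v : {v : G // orderOf v = 2} // (v : G) • pt = c} = 7 := by
  classical
  haveI := Fintype.ofFinite Ω
  set sw : Ω → ℕ := fun d => Nat.card {v : {v : G // orderOf v = 2} // (v : G) • pt = d} with hsw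
  have htot : ∑ d : Ω, sw d = 7 * Nat.card Ω := by
    rw [hsw, ← Nat.card_sigma, ← h.card_involutions]
    exact Nat.card_congr (Equiv.sigmaFiberEquiv fun v : {v : G // orderOf v = 2} => (v : G) • pt)
  have hle : ∀ d ∈ Finset.univ, sw d ≤ 7 := by
    intro d _
    by_cases hd : d = pt
    · subst hd; exact h.card_fix.le
    · exact h.swap_le hd
  by_contra hne
  have hlt : ∑ d : Ω, sw d < ∑ _d : Ω, 7 :=
    Finset.sum_lt_sum hle ⟨c, Finset.mem_univ _, lt_of_le_of_ne (h.swap_le hc) hne⟩
  rw [htot, Finset.sum_const, Finset.card_univ, smul_eq_mul, ← Nat.card_eq_fintype_card,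
    mul_comm] at hlt
  omega

theorem exists_swap {c : Ω} (hc : c ≠ pt) : ∃ v : G, orderOf v = 2 ∧ v • pt = c := by
  have h7 := h.swap_eq hc
  obtain ⟨⟨⟨v, hv⟩, hvc⟩⟩ := (Nat.card_pos_iff.mp (by rw [h7]; norm_num :
    0 < Nat.card {v : {v : G // orderOf v = 2} // (v : G) • pt = c})).1
  exact ⟨v, hv, hvc⟩

/-- Two points are fixed by exactly one subgroup of order seven. -/
theorem exists_seven {c : Ω} (hc : c ≠ pt) :
    (∃ R : Subgroup G, Nat.card R = 7 ∧ R ≤ two (P := P) c) ∧ Nat.card (two (P := P) c) ≤ 21 := by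
  refine ⟨?_, Nat.le_of_dvd (by norm_num) (h.two_dvd_21 hc)⟩
  classical
  obtain ⟨v, hv2, hvc⟩ := h.exists_swap hc
  have hv := (orderOf_eq_two.mp hv2).1
  have h7 : 7 ≤ Nat.card (two (P := P) c) := by
    rw [← h.swap_eq hc]
    refine Nat.card_le_card_of_injective (fun w => ⟨v * w.1.1, ?_⟩) (fun x y hxy =>
      Subtype.ext (Subtype.ext (mul_left_cancel (congrArg Subtype.val hxy))))
    have hw : (w.1.1) • pt = c := w.2
    exact ⟨smul_pt_eq_iff.mp (by rw [mul_smul, hw, swap_back hv hvc]),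
      mem_stabilizer_iff.mpr (by rw [mul_smul, swap_back (orderOf_eq_two.mp w.1.2).1 hw, hvc])⟩
  have h7d : 7 ∣ Nat.card (two (P := P) c) := by
    have : Nat.card (two (P := P) c) ∈ Nat.divisors 21 :=
      Nat.mem_divisors.mpr ⟨h.two_dvd_21 hc, by norm_num⟩
    rw [show Nat.divisors 21 = {1, 3, 7, 21} by decide] at this
    simp only [Finset.mem_insert, Finset.mem_singleton] at this
    rcases this with hh | hh | hh | hh <;> rw [hh] at h7 ⊢ <;> omega
  haveI : Fact (Nat.Prime 7) := ⟨by norm_num⟩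
  obtain ⟨s, hs⟩ := exists_prime_orderOf_dvd_card' (G := two (P := P) c) 7 h7d
  exact ⟨zpowers (s : G), by rw [Nat.card_zpowers, orderOf_subtype, hs], zpowers_le.mpr s.2⟩

theorem seven_unique {c : Ω} (hc : c ≠ pt) {A B : Subgroup G} (hA : Nat.card A = 7)
    (hB : Nat.card B = 7) (hAc : A ≤ two (P := P) c) (hBc : B ≤ two (P := P) c) : A = B :=
  eq_of_card_prime (by norm_num) hA hB hAc hBc
    (lt_of_le_of_lt (h.exists_seven hc).2 (by norm_num))

end Four

end Cfsg.Agent.TwoTimesAlt
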